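import Cfsg.Agent.Lib.Grp.Coprime
import Cfsg.Agent.Lib.Grp.Frattini
import Cfsg.Agent.Lib.Block.DegreeRel.Graph

/-!
# Two primes whose Sylow subgroups fix vectors uniquely

A soluble group acts faithfully and irreducibly on a module so that every non-zero vector is
fixed by exactly one Sylow subgroup for each of two primes dividing its order.  Then the product
of the two primes divides a character degree.
-/

set_option autoImplicit false
set_option linter.unusedSectionVars false
set_option linter.style.haveILetI false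

open Cfsg
open scoped Pointwise commutatorElement

namespace Cfsg.Agent.Char.ThreePrimes

universe u v

variable {H : Type u} [Group H] [Finite H] {V : Type v} [AddCommGroup V] [Finite V]
  (ρ : H →* AddMonoid.End V)

theorem act_act (a b : H) (w : V) : ρ a (ρ b w) = ρ (a * b) w := by
  rw [map_mul]; rfl

theorem act_one (w : V) : ρ 1 w = w := by
  rw [map_one]; rfl

theorem act_inv (a : H) (w : V) : ρ a⁻¹ (ρ a w) = w := by
  rw [act_act, inv_mul_cancel, act_one]

/-- The stabiliser of a vector. -/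
def st (w : V) : Subgroup H where
  carrier := {h | ρ h w = w}
  one_mem' := act_one ρ w
  mul_mem' := fun {a b} ha hb => by
    show ρ (a * b) w = w
    rw [← act_act, hb, ha]
  inv_mem' := fun {a} ha => by
    show ρ a⁻¹ w = w
    conv_lhs => rw [← ha]
    exact act_inv ρ a w

theorem mem_st {w : V} {h : H} (hh : h ∈ st ρ w) : ρ h w = w := hh

/-- The fixed vectors of a subgroup. -/
def fixS (S : Subgroup H) : AddSubgroup V where
  carrier := {w | ∀ s ∈ S, ρ s w = w}
  zero_mem' := fun s _ => map_zero _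
  add_mem' := fun {a b} ha hb s hs => by rw [map_add, ha s hs, hb s hs]
  neg_mem' := fun {a} ha s hs => by rw [map_neg, ha s hs]

theorem mem_fixS {S : Subgroup H} {w : V} : w ∈ fixS ρ S ↔ ∀ s ∈ S, ρ s w = w := Iff.rfl

theorem le_st {S : Subgroup H} {w : V} : S ≤ st ρ w ↔ w ∈ fixS ρ S := Iff.rfl

/-- No invariant subgroup other than the trivial ones. -/
def Irred : Prop := ∀ L : AddSubgroup V, (∀ h : H, ∀ w ∈ L, ρ h w ∈ L) → L = ⊥ ∨ L = ⊤

/-- Each non-zero vector is fixed by exactly one Sylow `x`-subgroup. -/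
structure UFix (x : ℕ) : Prop where
  prime : x.Prime
  dvd : x ∣ Nat.card H
  fixed : ∀ w : V, w ≠ 0 → ∃ S : Sylow x H, w ∈ fixS ρ (S : Subgroup H)
  unique : ∀ w : V, w ≠ 0 → ∀ S T : Sylow x H, w ∈ fixS ρ (S : Subgroup H) →
    w ∈ fixS ρ (T : Subgroup H) → S = T

theorem finite_end : Finite (AddMonoid.End V) :=
  Finite.of_injective (fun f => (f : V → V)) DFunLike.coe_injective

/-- A ring of endomorphisms without kernels is commutative. -/
theorem comm_of_injective [Nontrivial V] (s : Set (AddMonoid.End V))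
    (h : ∀ r ∈ Subring.closure s, r ≠ 0 → ∀ w : V, r w = 0 → w = 0) :
    ∀ a ∈ Subring.closure s, ∀ b ∈ Subring.closure s, a * b = b * a := by
  intro a ha b hb
  set R := Subring.closure s
  haveI := finite_end (V := V)
  haveI : Finite R := Subtype.finite
  haveI : NoZeroDivisors R := ⟨fun {r t} hrt => by
    by_contra hne
    push Not at hne
    obtain ⟨w, hw⟩ := exists_ne (0 : V)
    have h1 : (t : AddMonoid.End V) w ≠ 0 := fun e =>
      hw (h t t.2 (fun e' => hne.2 (Subtype.ext e')) w e)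
    exact h1 (h r r.2 (fun e' => hne.1 (Subtype.ext e')) _
      (DFunLike.congr_fun (congrArg Subtype.val hrt) w))⟩
  haveI : Nontrivial R := ⟨0, 1, fun e => by
    obtain ⟨w, hw⟩ := exists_ne (0 : V)
    exact hw (DFunLike.congr_fun (congrArg Subtype.val e) w).symm⟩
  haveI : IsDomain R := NoZeroDivisors.to_isDomain R
  exact congrArg Subtype.val ((Finite.isDomain_to_isField R).mul_comm ⟨a, ha⟩ ⟨b, hb⟩)

/-- A vector whose stabiliser in an abelian subgroup has cyclic quotient. -/
theorem exists_domain_hom [Nontrivial V] (A : Subgroup H)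
    (hA : ∀ a ∈ A, ∀ b ∈ A, a * b = b * a) :
    ∃ w : V, w ≠ 0 ∧ ∃ (D : Type v) (_ : CommRing D) (_ : IsDomain D) (f : A →* D),
      ∀ a : A, f a = 1 ↔ ρ (a : H) w = w := by
  classical
  set s : Set (AddMonoid.End V) := (fun a : A => ρ (a : H)) '' Set.univ with hs
  have hcomm : ∀ a ∈ s, ∀ b ∈ s, a * b = b * a := by
    rintro _ ⟨a, -, rfl⟩ _ ⟨b, -, rfl⟩
    rw [← map_mul, ← map_mul, hA a a.2 b b.2]
  set R := Subring.closure s
  letI : CommRing R := Subring.closureCommRingOfComm hcomm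
  have hmem : ∀ a : A, ρ (a : H) ∈ R := fun a => Subring.subset_closure ⟨a, trivial, rfl⟩
  -- a minimal invariant subgroup
  let T : Set (AddSubgroup V) := {L | L ≠ ⊥ ∧ ∀ r ∈ R, ∀ w ∈ L, r w ∈ L}
  haveI : Finite (AddSubgroup V) := Finite.of_injective _ SetLike.coe_injective
  obtain ⟨X, ⟨⟨hX0, hXR⟩, hXmin⟩⟩ := (Set.toFinite T).exists_minimal ⟨⊤, top_ne_bot, fun _ _ _ _ => trivial⟩
  obtain ⟨w, hwX, hw⟩ := X.bot_or_exists_ne_zero.resolve_left hX0
  let I : Ideal R :=
    { carrier := {r | (r : AddMonoid.End V) w = 0}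
      zero_mem' := rfl
      add_mem' := fun {a b} ha hb => by
        show (a : AddMonoid.End V) w + (b : AddMonoid.End V) w = 0
        rw [ha, hb, add_zero]
      smul_mem' := fun c r hr => by
        show (c : AddMonoid.End V) ((r : AddMonoid.End V) w) = 0
        rw [hr, map_zero] }
  haveI : I.IsPrime := by
    refine ⟨fun htop => hw ?_, fun {r t} hrt => or_iff_not_imp_right.2 fun ht => ?_⟩
    · exact (htop ▸ Submodule.mem_top : (1 : R) ∈ I)
    let K : AddSubgroup V :=
      { carrier := {u | u ∈ X ∧ (r : AddMonoid.End V) u = 0}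
        zero_mem' := ⟨X.zero_mem, map_zero _⟩
        add_mem' := fun {a b} ha hb => ⟨X.add_mem ha.1 hb.1, by rw [map_add, ha.2, hb.2, add_zero]⟩
        neg_mem' := fun {a} ha => ⟨X.neg_mem ha.1, by rw [map_neg, ha.2, neg_zero]⟩ }
    have hK : K ∈ T := by
      refine ⟨fun e => ht ?_, fun q hq u hu => ⟨hXR q hq u hu.1, ?_⟩⟩
      · have : (t : AddMonoid.End V) w ∈ K := ⟨hXR t t.2 w hwX, hrt⟩
        rwa [e, AddSubgroup.mem_bot] at this
      · have e := congrArg Subtype.val (mul_comm r ⟨q, hq⟩)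
        have e' := DFunLike.congr_fun e u
        show (r : AddMonoid.End V) (q u) = 0
        exact e'.trans (by show q ((r : AddMonoid.End V) u) = 0; rw [hu.2, map_zero])
    exact ((hXmin hK (fun u hu => hu.1)) hwX).2
  let f : A →* R ⧸ I :=
    (Ideal.Quotient.mk I).toMonoidHom.comp
      { toFun := fun a => ⟨ρ (a : H), hmem a⟩
        map_one' := Subtype.ext (map_one ρ)
        map_mul' := fun a b => Subtype.ext (map_mul ρ _ _) }
  refine ⟨w, hw, R ⧸ I, inferInstance, inferInstance, f, fun a => ?_⟩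
  show Ideal.Quotient.mk I ⟨ρ (a : H), hmem a⟩ = Ideal.Quotient.mk I 1 ↔ _
  rw [Ideal.Quotient.mk_eq_mk_iff_sub_mem]
  show (ρ (a : H)) w - w = 0 ↔ _
  rw [sub_eq_zero]

theorem cyclic_of_semiregular [Nontrivial V] (A : Subgroup H)
    (hA : ∀ a ∈ A, ∀ b ∈ A, a * b = b * a)
    (h : ∀ a ∈ A, ∀ w : V, w ≠ 0 → ρ a w = w → a = 1) : IsCyclic A := by
  obtain ⟨w, hw, D, _, _, f, hf⟩ := exists_domain_hom ρ A hA
  refine isCyclic_of_injective_ringHom f ((injective_iff_map_eq_one f).2 fun a ha => ?_)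
  exact Subtype.ext (h a a.2 w hw ((hf a).1 ha))

variable {ρ}

theorem nontrivial_of_dvd (hρ : Function.Injective ρ) {x : ℕ} (hx : UFix ρ x) : Nontrivial V := by
  by_contra hV
  rw [not_nontrivial_iff_subsingleton] at hV
  have h1 : ∀ h : H, h = 1 := fun h => hρ (AddMonoidHom.ext fun w => Subsingleton.elim _ _)
  have : Nat.card H = 1 := Nat.card_eq_one_iff_unique.2 ⟨⟨fun a b => (h1 a).trans (h1 b).symm⟩, ⟨1⟩⟩
  exact hx.prime.ne_one (Nat.dvd_one.1 (this ▸ hx.dvd))

theorem eq_one_of_fix (hρ : Function.Injective ρ) {h : H} (hf : ∀ w : V, ρ h w = w) : h = 1 :=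
  hρ (AddMonoidHom.ext fun w => (hf w).trans (act_one ρ w).symm)

/-- No Sylow subgroup fixes all vectors. -/
theorem not_all_fixed (hρ : Function.Injective ρ) {x : ℕ} (hx : UFix ρ x) (S : Sylow x H)
    (h : ∀ w : V, w ∈ fixS ρ (S : Subgroup H)) : False := by
  haveI := Fact.mk hx.prime
  have hbot : (S : Subgroup H) = ⊥ :=
    (Subgroup.eq_bot_iff_forall _).2 fun s hs => eq_one_of_fix hρ fun w => h w s hs
  exact hx.prime.ne_one (Nat.dvd_one.1 (by
    rw [← Subgroup.card_bot (G := H), ← hbot]; exact S.dvd_card_of_dvd_card hx.dvd))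

/-- A normal subgroup centralised by all Sylow subgroups is abelian. -/
theorem comm_of_centralized (hρ : Function.Injective ρ) {x : ℕ} (hx : UFix ρ x) (E : Subgroup H)
    (hE : ∀ S : Sylow x H, (S : Subgroup H) ≤ Subgroup.centralizer (E : Set H)) :
    ∀ a ∈ E, ∀ b ∈ E, a * b = b * a := by
  haveI := nontrivial_of_dvd hρ hx
  set s : Set (AddMonoid.End V) := ρ '' (E : Set H)
  set R := Subring.closure s
  have hpres : ∀ r ∈ R, ∀ (S : Sylow x H), ∀ w ∈ fixS ρ (S : Subgroup H),
      r w ∈ fixS ρ (S : Subgroup H) := by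
    intro r hr
    induction hr using Subring.closure_induction with
    | mem r hr =>
      obtain ⟨e, he, rfl⟩ := hr
      intro S w hw t ht
      rw [act_act, ← (Subgroup.mem_centralizer_iff.1 (hE S ht) e he), ← act_act, hw t ht]
    | zero => exact fun S w _ => AddSubgroup.zero_mem _
    | one => exact fun S w hw => hw
    | add a b _ _ ha hb => exact fun S w hw => AddSubgroup.add_mem _ (ha S w hw) (hb S w hw)
    | neg a _ ha => exact fun S w hw => AddSubgroup.neg_mem _ (ha S w hw)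
    | mul a b _ _ ha hb => exact fun S w hw => ha S _ (hb S w hw)
  have hne : ∀ r ∈ R, r ≠ 0 → ∀ w : V, r w = 0 → w = 0 := by
    intro r hr hr0 w hrw
    by_contra hw0
    -- vectors fixed by different Sylow subgroups
    have step : ∀ w1 w2 : V, r w1 = 0 → ∀ S T : Sylow x H, w1 ≠ 0 → w1 ∈ fixS ρ (S : Subgroup H) →
        w2 ≠ 0 → w2 ∈ fixS ρ (T : Subgroup H) → S ≠ T → r w2 = 0 := by
      intro w1 w2 h1 S T hw1 hS hw2 hT hne
      by_contra hr2
      have hu : w1 + w2 ≠ 0 := fun e => hne (hx.unique w1 hw1 S T hS (by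
        rw [eq_neg_of_add_eq_zero_left e]; exact AddSubgroup.neg_mem _ hT))
      obtain ⟨U, hU⟩ := hx.fixed _ hu
      have hUT : U ≠ T := fun e => hne (hx.unique w1 hw1 S T hS (by
        subst e
        simpa using AddSubgroup.sub_mem _ hU hT))
      refine hUT (hx.unique (r w2) hr2 U T ?_ (hpres r hr T w2 hT))
      have := hpres r hr U _ hU
      rwa [map_add, h1, zero_add] at this
    obtain ⟨S, hS⟩ := hx.fixed w hw0
    obtain ⟨w', hw'⟩ : ∃ w' : V, w' ∉ fixS ρ (S : Subgroup H) := by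
      by_contra hall
      push Not at hall
      exact not_all_fixed hρ hx S hall
    have hw'0 : w' ≠ 0 := fun e => hw' (e ▸ AddSubgroup.zero_mem _)
    obtain ⟨S', hS'⟩ := hx.fixed w' hw'0
    have hSS' : S ≠ S' := fun e => hw' (e ▸ hS')
    have hr' : r w' = 0 := step w w' hrw S S' hw0 hS hw'0 hS' hSS'
    refine hr0 (AddMonoidHom.ext fun u => ?_)
    show r u = 0
    by_cases hu : u = 0
    · rw [hu, map_zero]
    obtain ⟨U, hU⟩ := hx.fixed u hu
    by_cases hSU : S = U
    · exact step w' u hr' S' U hw'0 hS' hu hU fun e => hSS' (hSU.trans e.symm)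
    · exact step w u hrw S U hw0 hS hu hU hSU
  intro a ha b hb
  refine hρ ?_
  rw [map_mul, map_mul]
  exact comm_of_injective s hne _ (Subring.subset_closure ⟨a, ha, rfl⟩) _
    (Subring.subset_closure ⟨b, hb, rfl⟩)

/-- Abelian normal subgroups act semiregularly. -/
theorem semiregular (hρ : Function.Injective ρ) (hirr : Irred ρ) {ℓ : ℕ} (hℓp : ℓ.Prime)
    (hℓ : ∀ w : V, ℓ • w = 0) {a : ℕ} (ha : UFix ρ a) (ha2 : a ≠ 2) (N : Subgroup H) [hN : N.Normal]
    (hab : ∀ m ∈ N, ∀ n ∈ N, m * n = n * m) :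
    ∀ n ∈ N, ∀ w : V, w ≠ 0 → ρ n w = w → n = 1 := by
  classical
  haveI := Fact.mk hℓp
  haveI := Fact.mk ha.prime
  haveI := nontrivial_of_dvd hρ ha
  -- the order of `N` is prime to `ℓ`
  have hNℓ : ¬ ℓ ∣ Nat.card N := by
    intro hd
    obtain ⟨n, hn⟩ := exists_prime_orderOf_dvd_card' (G := N) ℓ hd
    let P : Subgroup H :=
      { carrier := {h | h ∈ N ∧ h ^ ℓ = 1}
        one_mem' := ⟨one_mem _, one_pow _⟩
        mul_mem' := fun {p q} hp hq => ⟨mul_mem hp.1 hq.1, by
          rw [(show Commute p q from hab p hp.1 q hq.1).mul_pow, hp.2, hq.2, mul_one]⟩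
        inv_mem' := fun {p} hp => ⟨inv_mem hp.1, by rw [inv_pow, hp.2, inv_one]⟩ }
    have hPp : IsPGroup ℓ P := fun p => ⟨1, Subtype.ext (by simpa using p.2.2)⟩
    letI : MulAction P V :=
      { smul := fun p w => ρ (p : H) w
        one_smul := act_one ρ
        mul_smul := fun p q w => (act_act ρ (p : H) q w).symm }
    have hV : ℓ ∣ Nat.card V := by
      obtain ⟨w, hw⟩ := exists_ne (0 : V)
      have := addOrderOf_eq_prime (hℓ w) hw
      exact this ▸ addOrderOf_dvd_natCard w
    obtain ⟨w, hwfix, hw0⟩ := hPp.exists_fixed_point_of_prime_dvd_card_of_fixed_point V hV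
      (a := 0) (fun p => map_zero _)
    rcases hirr (fixS ρ P) (fun h u hu p hp => by
      rw [act_act, show p * h = h * (h⁻¹ * p * h) by group, ← act_act]
      refine congrArg _ (hu _ ⟨by simpa using hN.conj_mem p hp.1 h⁻¹, ?_⟩)
      have := conj_pow (a := h⁻¹) (b := p) (i := ℓ)
      rw [inv_inv] at this
      rw [this, hp.2, mul_one, inv_mul_cancel]) with e | e
    · exact hw0 (((AddSubgroup.eq_bot_iff_forall _).1 e w) fun p hp => hwfix ⟨p, hp⟩).symm
    · have : (n : H) = 1 := eq_one_of_fix hρ fun u => (e ▸ AddSubgroup.mem_top u : u ∈ fixS ρ P)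
        n ⟨n.2, by rw [← SubmonoidClass.coe_pow, ← hn, pow_orderOf_eq_one]; rfl⟩
      rw [show n = 1 from Subtype.ext this, orderOf_one] at hn
      exact hℓp.one_lt.ne hn
  -- the maximal stabilisers
  let ker : V → Subgroup H := fun w => N ⊓ st ρ w
  let Top : V → Prop := fun w => w ≠ 0 ∧ ∀ u : V, u ≠ 0 → ker w ≤ ker u → ker u = ker w
  have hker : ∀ (g : H) (w : V) (n : H), n ∈ ker (ρ g w) ↔ g⁻¹ * n * g ∈ ker w := by
    intro g w n
    refine and_congr ⟨fun h => by simpa using hN.conj_mem n h g⁻¹,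
      fun h => by simpa [mul_assoc] using hN.conj_mem _ h g⟩ ⟨fun h => ?_, fun h => ?_⟩
    · show ρ (g⁻¹ * n * g) w = w
      rw [← act_act, ← act_act, mem_st ρ h, act_inv]
    · show ρ n (ρ g w) = ρ g w
      rw [act_act, show n * g = g * (g⁻¹ * n * g) by group, ← act_act, mem_st ρ h]
  have hne0 : ∀ (g : H) (w : V), w ≠ 0 → ρ g w ≠ 0 := fun g w hw e =>
    hw (by rw [← act_inv ρ g w, e, map_zero])
  have hTop : ∀ (g : H) (w : V), Top w → Top (ρ g w) := by
    intro g w hw
    refine ⟨hne0 g w hw.1, fun u hu hle => ?_⟩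
    have h1 : ker w ≤ ker (ρ g⁻¹ u) := fun n hn => by
      rw [hker]
      refine hle ((hker g w _).2 ?_)
      simpa [mul_assoc] using hn
    have h2 := hw.2 _ (hne0 _ _ hu) h1
    refine le_antisymm (fun n hn => (hker g w n).2 ?_) hle
    rw [← h2, hker]
    simpa [mul_assoc] using hn
  have hexTop : ∀ w : V, w ≠ 0 → ∃ u : V, Top u ∧ ker w ≤ ker u := by
    intro w hw
    obtain ⟨u, ⟨⟨hu, hwu⟩, hmax⟩⟩ := (Set.toFinite {u : V | u ≠ 0 ∧ ker w ≤ ker u}).exists_maximalFor
      ker _ ⟨w, hw, le_rfl⟩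
    exact ⟨u, ⟨hu, fun u' hu' hle => le_antisymm (hmax ⟨hu', hwu.trans hle⟩ hle) hle⟩, hwu⟩
  -- averaging
  haveI := Fintype.ofFinite H
  let P : Subgroup H → V → V := fun K w => ∑ k : K, ρ (k : H) w
  have hPfix : ∀ (K : Subgroup H) (w : V), P K w ∈ fixS ρ K := by
    intro K w k hk
    rw [map_sum]
    exact Fintype.sum_equiv (Equiv.mulLeft (⟨k, hk⟩ : K)) _ _ fun x => (act_act ρ k x w)
  have hPadd : ∀ (K : Subgroup H) (w w' : V), P K (w + w') = P K w + P K w' := fun K w w' => by
    simp only [P, map_add, Finset.sum_add_distrib]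
  have hPid : ∀ (K : Subgroup H) (w : V), w ∈ fixS ρ K → P K w = Nat.card K • w := fun K w hw => by
    simp only [P]
    rw [Finset.sum_congr rfl (fun (k : K) _ => hw (k : H) k.2), Finset.sum_const, Finset.card_univ,
      Nat.card_eq_fintype_card]
  have hsm : ∀ w w' : V, Top w → ∀ u : V, Nat.card (ker w) • u = Nat.card (ker w) • w' → u = w' := by
    intro w w' _ u h
    have hc : Nat.Coprime (Nat.card (ker w)) ℓ :=
      ((hℓp.coprime_iff_not_dvd).2 fun hd => hNℓ
        (hd.trans (Subgroup.card_dvd_of_le inf_le_left))).symm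
    obtain ⟨k, hk⟩ := Nat.exists_mul_mod_eq_one_of_coprime hc hℓp.one_lt
    have e : ∀ y : V, (k * Nat.card (ker w)) • y = y := fun y => by
      rw [mul_comm, ← Nat.mod_add_div (Nat.card (ker w) * k) ℓ, hk.2, add_smul, one_smul,
        mul_comm, mul_smul, hℓ, smul_zero, add_zero]
    rw [← e u, ← e w', mul_smul, mul_smul, h]
  have hPzero : ∀ v t : V, Top v → Top t → ker t ≠ ker v → P (ker v) t = 0 := by
    intro v t hv ht hne
    by_contra h0
    have h1 : ker v ≤ ker (P (ker v) t) := le_inf inf_le_left (hPfix _ _)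
    have h2 : ker t ≤ ker (P (ker v) t) := fun n hn => ⟨hn.1, by
      show ρ n (P (ker v) t) = P (ker v) t
      rw [map_sum]
      refine Finset.sum_congr rfl fun k _ => ?_
      rw [act_act, hab n hn.1 k k.2.1, ← act_act, mem_st ρ hn.2]⟩
    exact hne ((ht.2 _ h0 h2).symm.trans (hv.2 _ h0 h1))
  -- two different kernels
  have hsame : ∀ v w : V, Top v → Top w → ker v ≠ ker w →
      ∃ S : Sylow a H, v ∈ fixS ρ (S : Subgroup H) ∧ w ∈ fixS ρ (S : Subgroup H) := by
    intro v w hv hw hne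
    have hu : v + w ≠ 0 := fun e => hne (by
      rw [eq_neg_of_add_eq_zero_left e]
      ext n
      exact and_congr_right fun _ => ⟨fun (h : ρ n (-w) = -w) => by
          show ρ n w = w
          rwa [map_neg, neg_inj] at h, fun (h : ρ n w = w) => by
          show ρ n (-w) = -w
          rw [map_neg, h]⟩)
    obtain ⟨S, hS⟩ := ha.fixed _ hu
    suffices ∀ g ∈ (S : Subgroup H), ρ g v = v from
      ⟨S, this, fun g hg => by
        have h2 := hS g hg
        rw [map_add, this _ hg] at h2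
        exact add_left_cancel h2⟩
    intro g hg
    have e : ρ g v + ρ g w = v + w := by rw [← map_add]; exact hS g hg
    have hgne : ker (ρ g v) ≠ ker (ρ g w) := fun e' => hne (Subgroup.ext fun n => by
      have := hker g v (g * n * g⁻¹)
      have h2 := hker g w (g * n * g⁻¹)
      rw [e'] at this
      simp only [mul_assoc, inv_mul_cancel_left, inv_mul_cancel, mul_one] at this h2
      exact this.symm.trans h2)
    have hPv : P (ker v) (v + w) = Nat.card (ker v) • v := by
      rw [hPadd, hPzero v w hv hw hne.symm, add_zero, hPid _ _ fun k (hk : k ∈ ker v) => hk.2]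
    have hPw : P (ker w) (v + w) = Nat.card (ker w) • w := by
      rw [hPadd, hPzero w v hw hv hne, zero_add, hPid _ _ fun k (hk : k ∈ ker w) => hk.2]
    rw [← e, hPadd] at hPv hPw
    by_cases h1 : ker (ρ g v) = ker v
    · rw [hPzero v (ρ g w) hv (hTop g w hw) (fun h => hgne (h1.trans h.symm)), add_zero,
        hPid _ _ (fun k (hk : k ∈ ker v) => (h1.symm ▸ hk : k ∈ ker (ρ g v)).2)] at hPv
      exact hsm v v hv _ hPv
    rw [hPzero v (ρ g v) hv (hTop g v hv) h1, zero_add] at hPv
    have h2 : ker (ρ g w) = ker v := by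
      by_contra h2
      rw [hPzero v (ρ g w) hv (hTop g w hw) h2] at hPv
      exact hv.1 (hsm v v hv 0 (by rw [smul_zero]; exact hPv)).symm
    rw [hPid _ _ (fun k (hk : k ∈ ker v) => (h2.symm ▸ hk : k ∈ ker (ρ g w)).2)] at hPv
    have hgw : ρ g w = v := hsm v v hv _ hPv
    rw [hPzero w (ρ g w) hw (hTop g w hw) (h2 ▸ hne), add_zero] at hPw
    have h3 : ker (ρ g v) = ker w := by
      by_contra h3
      rw [hPzero w (ρ g v) hw (hTop g v hv) h3] at hPw
      exact hw.1 (hsm w w hw 0 (by rw [smul_zero]; exact hPw)).symm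
    rw [hPid _ _ (fun k (hk : k ∈ ker w) => (h3.symm ▸ hk : k ∈ ker (ρ g v)).2)] at hPw
    have hgv : ρ g v = w := hsm w w hw _ hPw
    obtain ⟨i, hi⟩ : g ∈ Subgroup.zpowers (g ^ 2) := by
      refine mem_zpowers_pow_iff.2 ?_
      obtain ⟨k, hk⟩ := IsPGroup.iff_orderOf.1 S.isPGroup' ⟨g, hg⟩
      rw [Subgroup.orderOf_mk] at hk
      show Nat.gcd 2 (orderOf g) = 1
      rw [hk]
      exact (Nat.Coprime.pow_right _ ((Nat.coprime_primes Nat.prime_two ha.prime).2 ha2.symm))
    refine hi ▸ ((st ρ v).zpow_mem ?_ i)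
    show ρ (g ^ 2) v = v
    rw [sq, ← act_act, hgv, hgw]
  -- the span of the maximal vectors
  have hspan : AddSubgroup.closure {w : V | Top w} = ⊤ := by
    refine (hirr _ fun h w hw => ?_).resolve_left fun e => ?_
    · have := AddSubgroup.mem_map_of_mem (ρ h : V →+ V) hw
      erw [AddMonoidHom.map_closure] at this
      refine AddSubgroup.closure_mono ?_ this
      rintro _ ⟨u, hu, rfl⟩
      exact hTop h u hu
    · obtain ⟨w, hw⟩ := exists_ne (0 : V)
      obtain ⟨u, hu, -⟩ := hexTop w hw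
      exact hu.1 ((AddSubgroup.eq_bot_iff_forall _).1 e u (AddSubgroup.subset_closure hu))
  have hall : ∀ v w : V, Top v → Top w → ker v = ker w := by
    intro v w hv hw
    by_contra hne
    obtain ⟨S, hS, hSw⟩ := hsame v w hv hw hne
    refine not_all_fixed hρ ha S fun t => ?_
    have : AddSubgroup.closure {w : V | Top w} ≤ fixS ρ (S : Subgroup H) := by
      rw [AddSubgroup.closure_le]
      intro t ht
      by_cases htv : ker t = ker v
      · obtain ⟨T, hT, hTw⟩ := hsame t w ht hw (htv ▸ hne)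
        exact ha.unique w hw.1 T S hTw hSw ▸ hT
      · obtain ⟨T, hT, hTv⟩ := hsame t v ht hv htv
        exact ha.unique v hv.1 T S hTv hS ▸ hT
    exact this (hspan ▸ AddSubgroup.mem_top t)
  intro n hn w hw hfix
  obtain ⟨u, hu, hwu⟩ := hexTop w hw
  refine eq_one_of_fix hρ fun t => ?_
  have : AddSubgroup.closure {w : V | Top w} ≤ fixS ρ (ker u) := by
    rw [AddSubgroup.closure_le]
    intro t ht k hk
    exact (hall u t hu ht ▸ hk : k ∈ ker t).2
  exact this (hspan ▸ AddSubgroup.mem_top t) n (hwu ⟨hn, hfix⟩)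

/-- The two Sylow subgroups cannot both move a cyclic normal subgroup. -/
theorem centralize_cyclic {x z : ℕ} (hx : x.Prime) (hz : z.Prime)
    (hNA : ∀ χ : IrrCharacter H, x ∣ charDegree (χ : H → ℂ) → z ∣ charDegree (χ : H → ℂ) → False)
    (N : Subgroup H) [hN : N.Normal] [hc : IsCyclic N] :
    (∀ S : Sylow x H, (S : Subgroup H) ≤ Subgroup.centralizer (N : Set H)) ∨
      ∀ S : Sylow z H, (S : Subgroup H) ≤ Subgroup.centralizer (N : Set H) := by
  classical
  haveI := Fintype.ofFinite H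
  haveI := Fintype.ofFinite N
  obtain ⟨g, hg⟩ := hc.exists_generator
  have hprim := Complex.isPrimitiveRoot_exp (Nat.card N) Nat.card_pos.ne'
  set ζ := (hprim.isUnit Nat.card_pos.ne').unit with hζ
  have hζo : orderOf ζ = Nat.card N := by
    rw [← orderOf_units, IsUnit.unit_spec]; exact hprim.eq_orderOf.symm
  have hgo : orderOf g = Nat.card N := orderOf_eq_card_of_forall_mem_zpowers hg
  set l : N →* ℂˣ := monoidHomOfForallMemZpowers hg (g' := ζ) (by rw [hζo, hgo]) with hl
  have hlinj : Function.Injective l := by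
    refine (injective_iff_map_eq_one l).2 fun n hn => ?_
    obtain ⟨i, rfl⟩ := hg n
    rw [map_zpow, hl, monoidHomOfForallMemZpowers_apply_gen] at hn
    rw [← orderOf_dvd_iff_zpow_eq_one, hgo, ← hζo, orderOf_dvd_iff_zpow_eq_one]
    exact hn
  obtain ⟨χ, hχ⟩ := Block.DegreeRel.exists_over (G := H) (Block.DegreeRel.linIrr l)
  have hd := Block.DegreeRel.orbit_dvd hχ
  have hle : inertia N ((Block.DegreeRel.linIrr l : IrrCharacter N) : N → ℂ) ≤ Subgroup.centralizer (N : Set H) := by
    intro h hh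
    rw [Subgroup.mem_centralizer_iff]
    intro n hn
    have := congrFun ((mem_inertia N).1 hh) ⟨n, hn⟩
    rw [conjN_eq_comp] at this
    have e := congrArg Subtype.val (hlinj (Units.ext this))
    rw [conjEquivN_apply] at e
    exact (mul_inv_eq_iff_eq_mul.1 e).symm
  have key : ∀ r : ℕ, r.Prime → ¬ r ∣ charDegree (χ : H → ℂ) →
      ∀ S : Sylow r H, (S : Subgroup H) ≤ Subgroup.centralizer (N : Set H) := by
    intro r hr hrd S
    haveI := Fact.mk hr
    set C := Subgroup.centralizer (N : Set H)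
    have hC : ¬ r ∣ C.index := fun h => hrd (h.trans ((Subgroup.index_dvd_of_le hle).trans hd))
    intro s hs
    rw [← QuotientGroup.eq_one_iff]
    obtain ⟨k, hk⟩ := IsPGroup.iff_orderOf.1 S.isPGroup' ⟨s, hs⟩
    rw [Subgroup.orderOf_mk] at hk
    have h1 : orderOf (s : H ⧸ C) ∣ r ^ k := hk ▸ orderOf_map_dvd (QuotientGroup.mk' C) s
    have h2 : orderOf (s : H ⧸ C) ∣ C.index := orderOf_dvd_natCard _
    exact orderOf_eq_one_iff.1 (Nat.eq_one_of_dvd_coprimes
      ((Nat.Coprime.pow_left _ ((hr.coprime_iff_not_dvd).2 hC))) h1 h2)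
  by_cases hxd : x ∣ charDegree (χ : H → ℂ)
  · exact Or.inr (key z hz (hNA χ hxd))
  · exact Or.inl (key x hx hxd)

section class2

/-- Powers of a product when the commutator is central. -/
theorem mul_pow_central {G : Type*} [Group G] {a b d : G} (hd : b * a = a * b * d)
    (hda : d * a = a * d) (hdb : d * b = b * d) :
    ∀ n : ℕ, (a * b) ^ n = a ^ n * b ^ n * d ^ (n.choose 2) := by
  have hDA : Commute d a := hda
  have hDB : Commute d b := hdb
  have hba : ∀ n : ℕ, b ^ n * a = a * b ^ n * d ^ n := by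
    intro n
    induction n with
    | zero => simp
    | succ n ih =>
      rw [pow_succ', mul_assoc, ih, ← mul_assoc, ← mul_assoc, hd, mul_assoc (a * b) d,
        (hDB.pow_right n).eq, ← mul_assoc, mul_assoc _ d, ← pow_succ', mul_assoc a b, ← pow_succ']
  intro n
  induction n with
  | zero => simp
  | succ n ih =>
    have h1 : d ^ (n.choose 2) * (a * b) = (a * b) * d ^ (n.choose 2) :=
      ((hDA.mul_right hDB).pow_left _).eq
    rw [pow_succ, ih, mul_assoc, h1, ← mul_assoc]
    have h2 : a ^ n * b ^ n * (a * b) = a ^ (n + 1) * b ^ (n + 1) * d ^ n := by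
      calc a ^ n * b ^ n * (a * b) = a ^ n * (b ^ n * a) * b := by simp only [mul_assoc]
        _ = a ^ n * a * (b ^ n * (d ^ n * b)) := by rw [hba n]; simp only [mul_assoc]
        _ = _ := by
          rw [(hDB.pow_left n).eq, ← pow_succ, pow_succ b]
          simp only [mul_assoc]
    rw [h2, mul_assoc, ← pow_add, Nat.choose_succ_succ, Nat.choose_one_right]

end class2

/-- A coprime action fixing a non-trivial subgroup of a cyclic group of prime power order. -/
theorem centralizes_cyclic_of_fixed {s a : ℕ} [hs : Fact s.Prime] (Z C : Subgroup H) [hC : C.Normal]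
    [hcyc : IsCyclic C] (hCs : IsPGroup s C) (hZ : IsPGroup a Z) (has : a ≠ s) (ha : a.Prime)
    (hsolv : Group.IsSolvable Z) {f : H} (hf : f ∈ C) (hf1 : f ≠ 1)
    (hfix : ∀ g ∈ Z, g * f = f * g) : Z ≤ Subgroup.centralizer (C : Set H) := by
  haveI := Fact.mk ha
  have hnorm : Z ≤ Subgroup.normalizer (C : Set H) := by
    rw [Subgroup.normalizer_eq_top]; exact le_top
  have hcop : (Nat.card Z).Coprime (Nat.card C) := IsPGroup.coprime_card_of_ne a s has Z C hZ hCs
  obtain ⟨c, hc⟩ := hcyc.exists_generator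
  have hmem : ∀ y ∈ C, ∃ i : ℤ, y = (c : H) ^ i := fun y hy => by
    obtain ⟨i, hi⟩ := hc ⟨y, hy⟩
    exact ⟨i, by rw [← SubgroupClass.coe_zpow]; exact congrArg Subtype.val hi.symm⟩
  by_cases hfull : (c : H) ∈ Subgroup.centralizer (Z : Set H)
  · intro g hg
    rw [Subgroup.mem_centralizer_iff]
    intro y hy
    obtain ⟨i, rfl⟩ := hmem y hy
    exact ((show Commute g (c : H) from Subgroup.mem_centralizer_iff.1 hfull g hg).zpow_right i).eq.symm
  exfalso
  set D := Subgroup.zpowers ((c : H) ^ s) with hD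
  obtain ⟨m, hm⟩ := IsPGroup.iff_orderOf.1 hCs c
  rw [← Subgroup.orderOf_coe] at hm
  have hsmall : ∀ i : ℤ, (c : H) ^ i ∉ D → c.1 ∈ Subgroup.zpowers ((c : H) ^ i) := by
    intro i hi
    refine mem_zpowers_zpow_iff.2 ?_
    rw [hm, Int.gcd]
    refine Nat.Coprime.pow_right _ ((hs.out.coprime_iff_not_dvd).2 fun hd => hi ?_).symm
    obtain ⟨j, hj⟩ := Int.natCast_dvd.2 hd
    exact ⟨j, by dsimp only; rw [hj, zpow_mul, zpow_natCast]⟩
  -- fixed points are small
  have h1 : C ⊓ Subgroup.centralizer (Z : Set H) ≤ D := by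
    intro y hy
    obtain ⟨i, rfl⟩ := hmem y hy.1
    by_contra hi
    exact hfull (Subgroup.zpowers_le.2 hy.2 (hsmall i hi))
  -- commutators are small
  have h2 : ⁅C, Z⁆ ≤ D := by
    rw [Subgroup.commutator_le]
    intro y hy g hg
    obtain ⟨i, rfl⟩ := hmem y hy
    obtain ⟨k, hk⟩ := hmem (g * c * g⁻¹) (hC.conj_mem c c.2 g)
    have he : ⁅(c : H) ^ i, g⁆ = ((c : H) ^ (1 - k)) ^ i := by
      rw [commutatorElement_def, mul_assoc ((c : H) ^ i) g, mul_assoc ((c : H) ^ i),
        ← zpow_neg, show g * (c : H) ^ (-i) * g⁻¹ = (g * c * g⁻¹) ^ (-i) from (conj_zpow).symm, hk,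
        ← zpow_mul, ← zpow_mul, ← zpow_add]
      congr 1
      ring
    rw [he]
    refine zpow_mem ?_ i
    by_contra hk1
    obtain ⟨j, rfl⟩ := hmem f hf
    have e : ((c : H) ^ j) ^ k = (c : H) ^ j := by
      rw [← zpow_mul, mul_comm, zpow_mul, ← hk, conj_zpow, hfix g hg, mul_inv_cancel_right]
    have e' : ((c : H) ^ (1 - k)) ^ j = 1 := by
      rw [← zpow_mul, mul_comm, zpow_mul, zpow_sub, zpow_one, e, mul_inv_cancel]
    obtain ⟨t, ht⟩ := hsmall _ hk1
    apply hf1
    dsimp only at ht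
    rw [← ht, ← zpow_mul, mul_comm, zpow_mul, e', one_zpow]
  have h3 : C ≤ D := by
    rw [← Grp.commutator_sup_fixed Z C hnorm hcop (Or.inl hsolv)]
    exact sup_le h2 h1
  obtain ⟨j, hj⟩ := h3 c.2
  have hdvd : (orderOf (c : H) : ℤ) ∣ s * j - 1 := by
    dsimp only at hj
    rw [orderOf_dvd_iff_zpow_eq_one, zpow_sub, zpow_mul, zpow_natCast, hj, zpow_one, mul_inv_cancel]
  rcases Nat.eq_zero_or_pos m with h0 | h0
  · rw [h0, pow_zero, orderOf_eq_one_iff] at hm
    obtain ⟨i, rfl⟩ := hmem f hf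
    exact hf1 (by rw [hm, one_zpow])
  · have h4 : (s : ℤ) ∣ s * j - 1 :=
      (Int.natCast_dvd_natCast.2 (hm ▸ dvd_pow_self s h0.ne')).trans hdvd
    exact hs.out.ne_one (Nat.dvd_one.1 (Int.natCast_dvd_natCast.1
      (show (s : ℤ) ∣ ((1 : ℕ) : ℤ) by simpa using dvd_sub (dvd_mul_right (s : ℤ) j) h4)))

variable [Group.IsSolvable H]

/-- Normal subgroups of prime power order are abelian. -/
theorem normal_pGroup_comm (hρ : Function.Injective ρ) (hirr : Irred ρ) {ℓ : ℕ} (hℓp : ℓ.Prime)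
    (hℓ : ∀ w : V, ℓ • w = 0) {x z : ℕ} (hxz : x ≠ z) (hx : UFix ρ x) (hz : UFix ρ z)
    (hNA : ∀ χ : IrrCharacter H, x ∣ charDegree (χ : H → ℂ) → z ∣ charDegree (χ : H → ℂ) → False)
    (s : ℕ) [hs : Fact s.Prime] :
    ∀ (n : ℕ) (E : Subgroup H), Nat.card E = n → E.Normal → IsPGroup s E →
      ∀ a ∈ E, ∀ b ∈ E, a * b = b * a := by
  classical
  intro n
  induction n using Nat.strong_induction_on with
  | _ n ih =>
  intro E hEn hEnormal hEs
  by_contra hnab
  haveI := hEnormal
  haveI := nontrivial_of_dvd hρ hx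
  obtain ⟨a0, ha0, ha02⟩ : ∃ a, UFix ρ a ∧ a ≠ 2 := by
    by_cases h : x = 2
    · exact ⟨z, hz, fun e => hxz (h.trans e.symm)⟩
    · exact ⟨x, hx, h⟩
  have hcyc : ∀ N : Subgroup H, N.Normal → (∀ a ∈ N, ∀ b ∈ N, a * b = b * a) → IsCyclic N :=
    fun N hN hab => by
      haveI := hN
      exact cyclic_of_semiregular ρ N hab (semiregular hρ hirr hℓp hℓ ha0 ha02 N hab)
  -- `s` is neither of the two primes
  have hsne : ∀ r : ℕ, UFix ρ r → r ≠ s := by
    rintro r hr rfl
    refine hnab fun a ha b hb => ?_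
    have : ∀ g ∈ E, g = 1 := fun g hg => eq_one_of_fix hρ fun w => by
      by_cases hw : w = 0
      · rw [hw, map_zero]
      obtain ⟨S, hS⟩ := hr.fixed w hw
      exact hS g (IsPGroup.le_sylow_of_normal hEs S hg)
    rw [this a ha, this b hb]
  -- the Frattini subgroup
  set F := (frattini E).map E.subtype with hF
  have hFle : F ≤ E := Subgroup.map_subtype_le _
  haveI hFn : F.Normal := inferInstance
  have hFpow : ∀ u ∈ E, u ^ s ∈ F := fun u hu =>
    ⟨⟨u, hu⟩ ^ s, Grp.pGroup_pow_mem_frattini hEs _, by simp⟩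
  have hFcomm : ∀ u ∈ E, ∀ t ∈ E, u⁻¹ * t⁻¹ * u * t ∈ F := fun u hu t ht =>
    ⟨⟨u, hu⟩⁻¹ * ⟨t, ht⟩⁻¹ * ⟨u, hu⟩ * ⟨t, ht⟩, Grp.pGroup_commutator_le_frattini hEs (by
      have h := Subgroup.commutator_mem_commutator (Subgroup.mem_top (⟨u, hu⟩ : E)⁻¹)
        (Subgroup.mem_top (⟨t, ht⟩ : E)⁻¹)
      rw [commutatorElement_def, inv_inv, inv_inv] at h
      exact h), by simp⟩
  have hEne : Nontrivial E := by
    by_contra h
    rw [not_nontrivial_iff_subsingleton] at h
    exact hnab fun a ha b hb =>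
      congrArg Subtype.val (Subsingleton.elim ((⟨a, ha⟩ : E) * ⟨b, hb⟩) (⟨b, hb⟩ * ⟨a, ha⟩))
  have hFlt : F < E := by
    refine lt_of_le_of_ne hFle fun e => ?_
    have htop : frattini E = ⊤ := by
      refine eq_top_iff.2 fun u _ => ?_
      obtain ⟨y, hy, hy'⟩ := (e.symm ▸ u.2 : (u : H) ∈ F)
      rwa [← Subtype.ext (show (y : H) = u from hy')]
    exact bot_ne_top (frattini_nongenerating (K := (⊥ : Subgroup E)) (by rw [htop, bot_sup_eq]))
  have hFs : IsPGroup s F := hEs.to_le hFle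
  have hlt : ∀ K : Subgroup H, K < E → Nat.card K < n := fun K hK => hEn ▸
    lt_of_le_of_ne (Subgroup.card_le_of_le hK.le) fun e => hK.ne
      (Subgroup.eq_of_le_of_card_ge hK.le e.ge)
  have hFab := ih _ (hlt F hFlt) F rfl hFn hFs
  haveI hFcyc : IsCyclic F := hcyc F hFn hFab
  have hF1 : F ≠ ⊥ := fun e => hnab fun a ha b hb => by
    have h := hFcomm a ha b hb
    rw [e, Subgroup.mem_bot] at h
    calc a * b = b * a * (a⁻¹ * b⁻¹ * a * b) := by group
      _ = b * a := by rw [h, mul_one]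
  obtain ⟨f₁, hf₁, hf₁1⟩ := F.bot_or_exists_ne_one.resolve_left hF1
  -- the chosen prime
  obtain ⟨r, hr, hrF, hr3⟩ : ∃ r, UFix ρ r ∧
      (∀ S : Sylow r H, (S : Subgroup H) ≤ Subgroup.centralizer (F : Set H)) ∧
      (Nat.card F = 2 → r ≠ 3) := by
    by_cases h2 : Nat.card F = 2
    · have hcent : ∀ g : H, g ∈ Subgroup.centralizer (F : Set H) := by
        intro g
        rw [Subgroup.mem_centralizer_iff]
        intro y hy
        by_cases hy1 : y = 1
        · rw [hy1, one_mul, mul_one]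
        haveI : Fintype F := Fintype.ofFinite F
        have e : (⟨g * y * g⁻¹, hFn.conj_mem y hy g⟩ : F) = ⟨y, hy⟩ := by
          obtain ⟨u, -, hu⟩ := (Nat.card_eq_two_iff' (1 : F)).1 h2
          rw [hu ⟨y, hy⟩ (fun e => hy1 (congrArg Subtype.val e)), hu ⟨g * y * g⁻¹, _⟩ (fun e => hy1 ?_)]
          exact conj_eq_one_iff.1 (congrArg Subtype.val e)
        exact (mul_inv_eq_iff_eq_mul.1 (congrArg Subtype.val e)).symm
      by_cases h : x = 3
      · exact ⟨z, hz, fun _ g _ => hcent g, fun _ e => hxz (h.trans e.symm)⟩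
      · exact ⟨x, hx, fun _ g _ => hcent g, fun _ => h⟩
    · rcases centralize_cyclic hx.prime hz.prime hNA F with h | h
      · exact ⟨x, hx, h, fun e => absurd e h2⟩
      · exact ⟨z, hz, h, fun e => absurd e h2⟩
  haveI := Fact.mk hr.prime
  have hrs := hsne r hr
  have hcop : ∀ (S : Sylow r H) (K : Subgroup H), K ≤ E →
      (Nat.card (S : Subgroup H)).Coprime (Nat.card K) := fun S K hK =>
    IsPGroup.coprime_card_of_ne r s hrs (S : Subgroup H) K S.isPGroup' (hEs.to_le hK)
  -- it is enough to centralise a large subgroup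
  suffices key : ∀ S : Sylow r H, (S : Subgroup H) ≤ Subgroup.centralizer (E : Set H) from
    hnab (comm_of_centralized hρ hr E key)
  have hnE : ∀ S : Sylow r H, (S : Subgroup H) ≤ Subgroup.normalizer (E : Set H) := fun S => by
    rw [Subgroup.normalizer_eq_top]; exact le_top
  set C := E ⊓ Subgroup.centralizer (F : Set H) with hC
  haveI hCn : C.Normal := inferInstance
  by_cases hCE : C = E
  swap
  · intro S
    have hCs : IsPGroup s C := hEs.to_le inf_le_left
    have hCab := ih _ (hlt C (lt_of_le_of_ne inf_le_left hCE)) C rfl hCn hCs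
    haveI := hcyc C hCn hCab
    have hFC : F ≤ C := le_inf hFle fun y hy => Subgroup.mem_centralizer_iff.2 fun y' hy' =>
      hFab y' hy' y hy
    have hSC : (S : Subgroup H) ≤ Subgroup.centralizer (C : Set H) :=
      centralizes_cyclic_of_fixed (s := s) (S : Subgroup H) C hCs S.isPGroup' hrs hr.prime
        inferInstance (hFC hf₁) hf₁1 fun g hg =>
          (Subgroup.mem_centralizer_iff.1 (hrF S hg) f₁ hf₁).symm
    refine Grp.le_centralizer_of_series (S : Subgroup H) E C (hnE S) (hcop S E le_rfl)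
      (Or.inl inferInstance) ?_ ?_
    · rw [Subgroup.commutator_le]
      intro e he g hg
      refine ⟨(Subgroup.commutator_le_left E (S : Subgroup H))
        (Subgroup.commutator_mem_commutator he hg), Subgroup.mem_centralizer_iff.2 fun y hy => ?_⟩
      have hy' : e⁻¹ * y * e ∈ F := by simpa using hFn.conj_mem y hy e⁻¹
      have h1 := Subgroup.mem_centralizer_iff.1 (hrF S hg) _ hy'
      have h2 : g⁻¹ * y = y * g⁻¹ :=
        ((show Commute g y from (Subgroup.mem_centralizer_iff.1 (hrF S hg) y hy).symm).inv_left).eq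
      rw [commutatorElement_def]
      calc y * (e * g * e⁻¹ * g⁻¹) = e * ((e⁻¹ * y * e) * g) * e⁻¹ * g⁻¹ := by group
        _ = e * g * e⁻¹ * (y * g⁻¹) := by rw [h1]; group
        _ = e * g * e⁻¹ * g⁻¹ * y := by rw [← h2]; group
    · exact Subgroup.commutator_eq_bot_iff_le_centralizer.2
        (Subgroup.le_centralizer_iff.1 hSC)
  -- `F` is central in `E`
  have hFcent : ∀ u ∈ E, ∀ y ∈ F, u * y = y * u := fun u hu y hy => by
    rw [← hCE] at hu
    exact (Subgroup.mem_centralizer_iff.1 hu.2 y hy).symm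
  -- products and powers
  have hcd : ∀ u ∈ E, ∀ t ∈ E, ∃ d ∈ F, d ^ s = 1 ∧
      (u * t) ^ s = u ^ s * t ^ s * d ^ (s.choose 2) := by
    intro u hu t ht
    set d := t⁻¹ * u⁻¹ * t * u with hd
    have hdF : d ∈ F := hFcomm t ht u hu
    have hda : d * u = u * d := (hFcent u hu d hdF).symm
    have hdb : d * t = t * d := (hFcent t ht d hdF).symm
    refine ⟨d, hdF, ?_, mul_pow_central (by rw [hd]; group) hda hdb s⟩
    have e : ∀ k : ℕ, u⁻¹ * t ^ k * u = t ^ k * d ^ k := by
      intro k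
      induction k with
      | zero => simp
      | succ k ih =>
        calc u⁻¹ * t ^ (k + 1) * u = (u⁻¹ * t ^ k * u) * (u⁻¹ * t * u) := by rw [pow_succ]; group
          _ = t ^ k * d ^ k * (t * d) := by rw [ih]; congr 1; rw [hd]; group
          _ = t ^ k * (d ^ k * t) * d := by simp only [mul_assoc]
          _ = t ^ (k + 1) * d ^ (k + 1) := by
            rw [((show Commute d t from hdb).pow_left k).eq, pow_succ, pow_succ]
            simp only [mul_assoc]
    have h := e s
    rw [mul_assoc, ← hFcent u hu _ (hFpow t ht), inv_mul_cancel_left] at h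
    exact mul_eq_left.1 h.symm
  let Q : H → Prop := fun u => ∃ y ∈ F, u ^ s = y ^ s
  -- a maximal abelian subgroup inside `Q`
  obtain ⟨A, ⟨⟨hFA, hAE, hAab, hAQ⟩, hAmax⟩⟩ := (Set.toFinite {A : Subgroup H | F ≤ A ∧ A ≤ E ∧
    (∀ a ∈ A, ∀ b ∈ A, a * b = b * a) ∧ ∀ a ∈ A, Q a}).exists_maximal
    ⟨F, le_rfl, hFle, hFab, fun y hy => ⟨y, hy, rfl⟩⟩
  set B := E ⊓ Subgroup.centralizer (A : Set H) with hB
  have hAB : A ≤ B := le_inf hAE fun a ha => Subgroup.mem_centralizer_iff.2 fun b hb =>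
    hAab b hb a ha
  have hQB : ∀ b ∈ B, Q b → b ∈ A := by
    intro b hb hQb
    let U : Set H := (A : Set H) ∪ {b}
    have hUc : ∀ p ∈ U, ∀ q ∈ U, p * q = q * p := by
      rintro p (hp | rfl) q (hq | rfl)
      · exact hAab p hp q hq
      · exact Subgroup.mem_centralizer_iff.1 hb.2 p hp
      · exact (Subgroup.mem_centralizer_iff.1 hb.2 q hq).symm
      · rfl
    have hcl : ∀ p ∈ Subgroup.closure U, ∀ q ∈ Subgroup.closure U, p * q = q * p := by
      intro p hp q hq
      haveI := Subgroup.isMulCommutative_closure hUc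
      exact congrArg Subtype.val
        (mul_comm' (⟨p, hp⟩ : Subgroup.closure U) ⟨q, hq⟩)
    have hUE : Subgroup.closure U ≤ E := by
      rw [Subgroup.closure_le]
      rintro p (hp | rfl)
      · exact hAE hp
      · exact hb.1
    have hUQ : ∀ p ∈ Subgroup.closure U, Q p := by
      intro p hp
      induction hp using Subgroup.closure_induction with
      | mem p hp =>
        rcases hp with hp | rfl
        · exact hAQ p hp
        · exact hQb
      | one => exact ⟨1, one_mem _, rfl⟩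
      | mul p q hp hq ihp ihq =>
        obtain ⟨y, hy, hy'⟩ := ihp
        obtain ⟨y', hy2, hy2'⟩ := ihq
        exact ⟨y * y', mul_mem hy hy2, by
          rw [(show Commute p q from hcl p hp q hq).mul_pow, hy', hy2',
            (show Commute y y' from hFab y hy y' hy2).mul_pow]⟩
      | inv p _ ihp =>
        obtain ⟨y, hy, hy'⟩ := ihp
        exact ⟨y⁻¹, inv_mem hy, by rw [inv_pow, hy', inv_pow]⟩
    have hAU : A ≤ Subgroup.closure U := fun p hp => Subgroup.subset_closure (Or.inl hp)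
    exact hAmax ⟨hFA.trans hAU, hUE, hcl, hUQ⟩ hAU (Subgroup.subset_closure (Or.inr rfl))
  -- a vector
  obtain ⟨w, hw, D, _, _, f, hf⟩ := exists_domain_hom ρ A hAab
  obtain ⟨S₀, hS₀⟩ := hr.fixed w hw
  have hsem := semiregular hρ hirr hℓp hℓ ha0 ha02 F hFab
  have hS₀A : (S₀ : Subgroup H) ≤ Subgroup.centralizer (A : Set H) := by
    have hK : ∀ e ∈ E, ρ e w = w → ∀ g ∈ (S₀ : Subgroup H), g * e = e * g := by
      intro e he hew g hg
      have hmem : e * g * e⁻¹ ∈ (S₀ : Subgroup H) := by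
        have : e • S₀ = S₀ := hr.unique w hw _ S₀ (fun t ht => by
          rw [Sylow.coe_subgroup_smul, Grp.mem_smul_conj] at ht
          have h1 := hS₀ _ ht
          have h2 : t = e * (e⁻¹ * t * e) * e⁻¹ := by group
          rw [h2, ← act_act, ← act_act]
          nth_rw 1 [show ρ e⁻¹ w = w from (st ρ w).inv_mem hew]
          rw [h1, hew]) hS₀
        rw [← this, Sylow.coe_subgroup_smul, Grp.mem_smul_conj]
        simpa [mul_assoc] using hg
      have h1 : e * g * e⁻¹ * g⁻¹ ∈ E := by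
        have := mul_mem he (hEnormal.conj_mem _ (inv_mem he) g)
        simpa [mul_assoc] using this
      have h2 : e * g * e⁻¹ * g⁻¹ ∈ (S₀ : Subgroup H) := mul_mem hmem (inv_mem hg)
      have h3 : e * g * e⁻¹ * g⁻¹ = 1 := by
        have := Grp.inf_eq_bot_of_coprime (hcop S₀ E le_rfl)
        exact (Subgroup.eq_bot_iff_forall _).1 this _ ⟨h2, h1⟩
      exact (commutatorElement_eq_one_iff_mul_comm.1 h3).symm
    intro g hg
    rw [Subgroup.mem_centralizer_iff]
    intro a ha
    -- `a` is a product of a fixed element and one of `F`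
    obtain ⟨y, hy, hy'⟩ := hAQ a ha
    obtain ⟨c₀, hc₀⟩ := exists_prime_orderOf_dvd_card' (G := F) s (by
      obtain ⟨k, hk⟩ := IsPGroup.iff_card.1 hFs
      rw [hk]
      exact dvd_pow_self s fun h0 => hF1 (Subgroup.card_eq_one.1 (by rw [hk, h0, pow_zero])))
    set c : A := ⟨c₀, hFA c₀.2⟩
    have hc1 : f c ≠ 1 := fun e => by
      have := hsem (c₀ : H) c₀.2 w hw ((hf c).1 e)
      rw [show c₀ = 1 from Subtype.ext this, orderOf_one] at hc₀
      exact hs.out.one_lt.ne hc₀
    have hcs : (c : A) ^ s = 1 := Subtype.ext (by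
      have := congrArg Subtype.val (pow_orderOf_eq_one c₀)
      rw [hc₀] at this
      simpa using this)
    have hprim : IsPrimitiveRoot (f c) s := by
      rw [IsPrimitiveRoot.iff_orderOf]
      exact orderOf_eq_prime (by rw [← map_pow, hcs, map_one]) hc1
    set b : A := ⟨a, ha⟩ * (⟨y, hFA hy⟩ : A)⁻¹
    have hbs : f b ^ s = 1 := by
      rw [← map_pow, show b ^ s = 1 from Subtype.ext (by
        show ((a : H) * y⁻¹) ^ s = 1
        rw [(show Commute a y⁻¹ from hAab a ha _ (inv_mem (hFA hy))).mul_pow, inv_pow, hy',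
          mul_inv_cancel]), map_one]
    haveI : NeZero s := ⟨hs.out.ne_zero⟩
    obtain ⟨i, -, hi⟩ := hprim.eq_pow_of_pow_eq_one hbs
    set k : A := b * (c ^ i)⁻¹ with hkdef
    have hk : f k = 1 := by
      have h1 : f k * f (c ^ i) = f (c ^ i) := by
        rw [← map_mul, hkdef, inv_mul_cancel_right, map_pow, hi]
      have h2 : f (c ^ i) * f (c ^ i)⁻¹ = 1 := by rw [← map_mul, mul_inv_cancel, map_one]
      calc f k = f k * (f (c ^ i) * f (c ^ i)⁻¹) := by rw [h2, mul_one]
        _ = 1 := by rw [← mul_assoc, h1, h2]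
    have hkc := hK k (hAE k.2) ((hf k).1 hk) g hg
    have hFc : ∀ t ∈ F, Commute g t := fun t ht =>
      (Subgroup.mem_centralizer_iff.1 (hrF S₀ hg) t ht).symm
    have ea : a = (k : H) * (c₀ : H) ^ i * y := by
      simp [hkdef, b, c, mul_assoc]
    rw [ea]
    exact (((show Commute g (k : H) from hkc).mul_right ((hFc _ c₀.2).pow_right i)).mul_right
      (hFc y hy)).eq.symm
  -- the chosen subgroup centralises `B`
  have hBn : ∀ e ∈ E, ∀ b ∈ B, e⁻¹ * b * e ∈ B := by
    intro e he b hb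
    have h1 : e⁻¹ * b⁻¹ * e * b ∈ B := hAB (hFA (hFcomm e he b hb.1))
    have : e⁻¹ * b * e = b * (e⁻¹ * b⁻¹ * e * b)⁻¹ := by
      group
    rw [this]
    exact mul_mem hb (inv_mem h1)
  have hSn : ∀ g ∈ (S₀ : Subgroup H), ∀ b ∈ B, g * b * g⁻¹ ∈ B := by
    intro g hg b hb
    refine ⟨hEnormal.conj_mem b hb.1 g, Subgroup.mem_centralizer_iff.2 fun a ha => ?_⟩
    have h1 : Commute g a := (Subgroup.mem_centralizer_iff.1 (hS₀A hg) a ha).symm
    have h2 : Commute b a := (Subgroup.mem_centralizer_iff.1 hb.2 a ha).symm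
    exact (((h1.mul_left h2).mul_left h1.inv_left)).eq.symm
  have hmod : ∀ b ∈ B, ∀ g ∈ (S₀ : Subgroup H), b⁻¹ * (g * b * g⁻¹) ∈ A := by
    by_cases h2 : s = 2 ∧ Nat.card F = 2
    · obtain ⟨rfl, hF2⟩ := h2
      intro b hb g hg
      by_cases hbA : b ∈ A
      · exact mul_mem (inv_mem hbA) (by
          rw [(Subgroup.mem_centralizer_iff.1 (hS₀A hg) b hbA).symm, mul_inv_cancel_right]
          exact hbA)
      obtain ⟨c, hc1, hcu⟩ := (Nat.card_eq_two_iff' (1 : F)).1 hF2
      have hFel : ∀ y ∈ F, y ≠ 1 → y = c := fun y hy hy1 =>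
        congrArg Subtype.val (hcu ⟨y, hy⟩ fun e => hy1 (congrArg Subtype.val e))
      have hsq : ∀ p ∈ B, p ∉ A → p ^ 2 = c := fun p hp hpA =>
        hFel _ (hFpow p hp.1) fun e => hpA (hQB p hp ⟨1, one_mem _, by rw [e, one_pow]⟩)
      have hanti : ∀ p ∈ B, ∀ q ∈ B, p ∉ A → q ∉ A → p⁻¹ * q ∉ A → p * q = q * p * c := by
        intro p hp q hq hpA hqA hpq
        have h1 : p⁻¹ * q⁻¹ * p * q = c := by
          refine hFel _ (hFcomm p hp.1 q hq.1) fun e => ?_
          have hcomm : Commute p q := by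
            show p * q = q * p
            calc p * q = q * p * (p⁻¹ * q⁻¹ * p * q) := by group
              _ = q * p := by rw [e, mul_one]
          have h3 := hsq _ (mul_mem (inv_mem hp) hq) hpq
          rw [hcomm.inv_left.mul_pow, inv_pow, hsq p hp hpA, hsq q hq hqA, inv_mul_cancel] at h3
          exact hc1 (Subtype.ext h3.symm)
        rw [← h1]; group
      have hfour : ∀ p₁ ∈ B, ∀ p₂ ∈ B, ∀ p₃ ∈ B, p₁ ∉ A → p₂ ∉ A → p₃ ∉ A →
          p₁⁻¹ * p₂ ∉ A → p₁⁻¹ * p₃ ∉ A → p₂⁻¹ * p₃ ∉ A → p₃⁻¹ * (p₁ * p₂) ∈ A := by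
        intro p₁ h₁ p₂ h₂ p₃ h₃ n₁ n₂ n₃ m₁₂ m₁₃ m₂₃
        by_contra hm
        have hp12 : p₁ * p₂ ∉ A := by
          intro h
          apply m₁₂
          have e : p₁⁻¹ * p₂ = (p₁ ^ 2)⁻¹ * (p₁ * p₂) := by group
          rw [e, hsq p₁ h₁ n₁]
          exact mul_mem (inv_mem (hFA c.2)) h
        have hcc : (c : H) * c = 1 := by
          have h5 : c ^ 2 = 1 := by rw [← hF2]; exact pow_card_eq_one'
          have := congrArg Subtype.val h5
          simpa [sq] using this
        have h := hanti p₃ h₃ _ (mul_mem h₁ h₂) n₃ hp12 hm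
        have e : p₃ * (p₁ * p₂) = p₁ * p₂ * p₃ := by
          have e1 := hanti p₁ h₁ p₃ h₃ n₁ n₃ m₁₃
          have e2 := hanti p₂ h₂ p₃ h₃ n₂ n₃ m₂₃
          have cc : Commute (c : H) p₂ := (hFcent p₂ h₂.1 _ c.2).symm
          symm
          calc p₁ * p₂ * p₃ = p₁ * (p₃ * p₂ * c) := by rw [mul_assoc, e2]
            _ = (p₁ * p₃) * (p₂ * c) := by simp only [mul_assoc]
            _ = p₃ * p₁ * ((c : H) * p₂) * c := by rw [e1]; simp only [mul_assoc]
            _ = p₃ * (p₁ * p₂) * ((c : H) * c) := by rw [cc.eq]; simp only [mul_assoc]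
            _ = _ := by rw [hcc, mul_one]
        rw [e] at h
        exact hc1 (Subtype.ext (mul_eq_left.1 h.symm))
      -- the coset of `b` has a short orbit
      have hmove : ∀ i : ℕ, g ^ i * b * (g ^ i)⁻¹ ∈ B ∧ g ^ i * b * (g ^ i)⁻¹ ∉ A := by
        intro i
        have hgi := pow_mem hg i
        refine ⟨hSn _ hgi b hb, fun h => hbA ?_⟩
        have hc2 := Subgroup.mem_centralizer_iff.1 (hS₀A hgi) _ h
        have : g ^ i * b * (g ^ i)⁻¹ = b := by
          have e := hc2
          rw [inv_mul_cancel_right] at e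
          exact (mul_left_cancel e).symm
        rwa [this] at h
      let Fx : Subgroup H :=
        { carrier := {t | t ∈ (S₀ : Subgroup H) ∧ b⁻¹ * (t * b * t⁻¹) ∈ A}
          one_mem' := ⟨one_mem _, by simp⟩
          mul_mem' := fun {t u} ht hu => ⟨mul_mem ht.1 hu.1, by
            have hc2 := Subgroup.mem_centralizer_iff.1 (hS₀A ht.1) _ hu.2
            have : b⁻¹ * (t * u * b * (t * u)⁻¹) =
                (b⁻¹ * (t * b * t⁻¹)) * (t * (b⁻¹ * (u * b * u⁻¹)) * t⁻¹) := by group
            rw [this, ← hc2, mul_inv_cancel_right]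
            exact mul_mem ht.2 hu.2⟩
          inv_mem' := fun {t} ht => ⟨inv_mem ht.1, by
            have hc2 := Subgroup.mem_centralizer_iff.1 (hS₀A (inv_mem ht.1)) _ (inv_mem ht.2)
            have : b⁻¹ * (t⁻¹ * b * t⁻¹⁻¹) = t⁻¹ * (b⁻¹ * (t * b * t⁻¹))⁻¹ * t⁻¹⁻¹ := by group
            rw [this, ← hc2, mul_inv_cancel_right]
            exact inv_mem ht.2⟩ }
      suffices g ∈ Fx from this.2
      have hpair : ∀ i j : ℕ, i < j → j ≤ 3 →
          (g ^ i * b * (g ^ i)⁻¹)⁻¹ * (g ^ j * b * (g ^ j)⁻¹) ∈ A → g ∈ Fx := by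
        intro i j hij hj h
        have hk : g ^ (j - i) ∈ Fx := by
          refine ⟨pow_mem hg _, ?_⟩
          have hc2 := Subgroup.mem_centralizer_iff.1 (hS₀A (inv_mem (pow_mem hg i))) _ h
          have : b⁻¹ * (g ^ (j - i) * b * (g ^ (j - i))⁻¹) =
              (g ^ i)⁻¹ * ((g ^ i * b * (g ^ i)⁻¹)⁻¹ * (g ^ j * b * (g ^ j)⁻¹)) * (g ^ i)⁻¹⁻¹ := by
            rw [show g ^ j = g ^ i * g ^ (j - i) by rw [← pow_add, Nat.add_sub_cancel' hij.le]]
            group
          rw [this, ← hc2, mul_inv_cancel_right]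
          exact h
        obtain ⟨k, hk'⟩ := IsPGroup.iff_orderOf.1 S₀.isPGroup' ⟨g, hg⟩
        rw [Subgroup.orderOf_mk] at hk'
        obtain ⟨t, ht⟩ : g ∈ Subgroup.zpowers (g ^ (j - i)) := by
          refine mem_zpowers_pow_iff.2 ?_
          show Nat.gcd (j - i) (orderOf g) = 1
          rw [hk']
          refine Nat.Coprime.pow_right _ (((hr.prime.coprime_iff_not_dvd).2 fun hd => ?_).symm)
          have h5 := Nat.le_of_dvd (by omega) hd
          have := hr3 hF2
          have := hr.prime.two_le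
          omega
        exact ht ▸ Subgroup.zpow_mem _ hk t
      by_contra hgF
      obtain ⟨b0, n0⟩ := hmove 0
      obtain ⟨b1, n1⟩ := hmove 1
      obtain ⟨b2, n2⟩ := hmove 2
      obtain ⟨b3, n3⟩ := hmove 3
      have m := fun i j h1 h2 h => hgF (hpair i j h1 h2 h)
      have e2 := hfour _ b0 _ b1 _ b2 n0 n1 n2 (m 0 1 (by omega) (by omega))
        (m 0 2 (by omega) (by omega)) (m 1 2 (by omega) (by omega))
      have e3 := hfour _ b0 _ b1 _ b3 n0 n1 n3 (m 0 1 (by omega) (by omega))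
        (m 0 3 (by omega) (by omega)) (m 1 3 (by omega) (by omega))
      refine m 2 3 (by omega) le_rfl ?_
      have := mul_mem e2 (inv_mem e3)
      simpa [mul_assoc] using this
    · intro b hb g hg
      have hgb := hSn g hg b hb
      refine hQB _ (mul_mem (inv_mem hb) hgb) ?_
      obtain ⟨d, hdF, hds, he⟩ := hcd _ (inv_mem hb.1) _ hgb.1
      have h1 : (g * b * g⁻¹) ^ s = b ^ s := by
        rw [conj_pow, ← Subgroup.mem_centralizer_iff.1 (hrF S₀ hg) _ (hFpow b hb.1),
          mul_inv_cancel_right]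
      rw [h1, inv_pow, inv_mul_cancel, one_mul] at he
      by_cases h3 : s ∣ s.choose 2
      · refine ⟨1, one_mem _, ?_⟩
        obtain ⟨m, hm⟩ := h3
        rw [he, hm, pow_mul, hds, one_pow, one_pow]
      · have hs2 : s = 2 := by
          by_contra hne
          refine h3 (Nat.Prime.dvd_choose_self hs.out (by norm_num) ?_)
          exact lt_of_le_of_ne hs.out.two_le (Ne.symm hne)
        subst hs2
        rw [Nat.choose_self, pow_one] at he
        -- an involution in a larger cyclic group is a square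
        obtain ⟨y, hy⟩ := hFcyc.exists_generator
        obtain ⟨i, hi⟩ := hy ⟨d, hdF⟩
        obtain ⟨m, hm⟩ := IsPGroup.iff_card.1 hFs
        have hyo : orderOf y = 2 ^ m := by rw [orderOf_eq_card_of_forall_mem_zpowers hy, hm]
        have hm2 : 2 ≤ m := by
          rcases m with _ | _ | m
          · exact absurd (Subgroup.card_eq_one.1 (by rw [hm, pow_zero])) hF1
          · exact absurd ⟨rfl, by rw [hm, pow_one]⟩ h2
          · omega
        have hdiv : ((2 ^ m : ℕ) : ℤ) ∣ 2 * i := by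
          dsimp only at hi
          rw [← hyo, orderOf_dvd_iff_zpow_eq_one, mul_comm, zpow_mul, hi]
          exact Subtype.ext (by simpa using hds)
        obtain ⟨j, rfl⟩ : (2 : ℤ) ∣ i := by
          obtain ⟨t, ht⟩ := hdiv
          obtain ⟨m', rfl⟩ := Nat.exists_eq_add_of_le hm2
          refine ⟨(2 : ℤ) ^ m' * t, mul_left_cancel₀ (two_ne_zero (α := ℤ)) ?_⟩
          rw [ht]; push_cast; ring
        refine ⟨((y ^ j : F) : H), (y ^ j : F).2, ?_⟩
        rw [he, ← SubmonoidClass.coe_pow, ← zpow_natCast, ← zpow_mul, mul_comm]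
        exact congrArg Subtype.val hi.symm
  have hS₀B : (S₀ : Subgroup H) ≤ Subgroup.centralizer (B : Set H) := by
    refine Grp.le_centralizer_of_series (S₀ : Subgroup H) B A (fun g hg => ?_)
      (hcop S₀ B inf_le_left) (Or.inl inferInstance) ?_ ?_
    · rw [Subgroup.mem_normalizer_iff]
      intro b
      refine ⟨hSn g hg b, fun h => ?_⟩
      simpa [mul_assoc] using hSn g⁻¹ (inv_mem hg) _ h
    · rw [Subgroup.commutator_le]
      intro b hb g hg
      have := hmod b⁻¹ (inv_mem hb) g hg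
      rw [inv_inv] at this
      simpa [commutatorElement_def, mul_assoc] using this
    · exact Subgroup.commutator_eq_bot_iff_le_centralizer.2
        (Subgroup.le_centralizer_iff.1 hS₀A)
  have hS₀E : (S₀ : Subgroup H) ≤ Subgroup.centralizer (E : Set H) := by
    refine Grp.le_centralizer_of_series (S₀ : Subgroup H) E B (hnE S₀) (hcop S₀ E le_rfl)
      (Or.inl inferInstance) ?_ ?_
    · rw [Subgroup.commutator_le]
      intro e he g hg
      have hm : ⁅e, g⁆ ∈ E := (Subgroup.commutator_le_left E (S₀ : Subgroup H))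
        (Subgroup.commutator_mem_commutator he hg)
      have hmB : ∀ y ∈ B, ⁅e, g⁆ * y = y * ⁅e, g⁆ := by
        intro y hy
        have h1 := Subgroup.mem_centralizer_iff.1 (hS₀B hg) _ (hBn e he y hy)
        have h2 : g⁻¹ * y = y * g⁻¹ :=
          ((show Commute g y from (Subgroup.mem_centralizer_iff.1 (hS₀B hg) y hy).symm).inv_left).eq
        rw [commutatorElement_def]
        symm
        calc y * (e * g * e⁻¹ * g⁻¹) = e * ((e⁻¹ * y * e) * g) * e⁻¹ * g⁻¹ := by group
          _ = e * g * e⁻¹ * (y * g⁻¹) := by rw [h1]; group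
          _ = e * g * e⁻¹ * g⁻¹ * y := by rw [← h2]; group
      exact ⟨hm, Subgroup.mem_centralizer_iff.2 fun a ha => (hmB a (hAB ha)).symm⟩
    · exact Subgroup.commutator_eq_bot_iff_le_centralizer.2
        (Subgroup.le_centralizer_iff.1 hS₀B)
  intro S
  obtain ⟨h, hh⟩ := MulAction.exists_smul_eq H S₀ S
  intro g hg
  rw [← hh, Sylow.coe_subgroup_smul, Grp.mem_smul_conj] at hg
  rw [Subgroup.mem_centralizer_iff]
  intro e he
  have := Subgroup.mem_centralizer_iff.1 (hS₀E hg) _ (by simpa using hEnormal.conj_mem e he h⁻¹)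
  calc e * g = h * ((h⁻¹ * e * h) * (h⁻¹ * g * h)) * h⁻¹ := by group
    _ = g * e := by rw [this]; group

/-- **The core statement**: such an action does not exist. -/
theorem core_false (hρ : Function.Injective ρ) (hirr : Irred ρ) {ℓ : ℕ} (hℓp : ℓ.Prime)
    (hℓ : ∀ w : V, ℓ • w = 0) {x z : ℕ} (hxz : x ≠ z) (hx : UFix ρ x) (hz : UFix ρ z)
    (hNA : ∀ χ : IrrCharacter H, x ∣ charDegree (χ : H → ℂ) → z ∣ charDegree (χ : H → ℂ) → False) :
    False := by
  classical
  set F := Cfsg.fittingSubgroup H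
  haveI hFn : F.Normal := Grp.fittingSubgroup_isNormal
  haveI hFnil : Group.IsNilpotent F := Grp.fittingSubgroup_isNilpotent
  have hFab : ∀ a ∈ F, ∀ b ∈ F, a * b = b * a := by
    obtain ⟨e⟩ := ((Group.isNilpotent_of_finite_tfae (G := F)).out 0 4).1 hFnil
    intro a ha b hb
    have key : ∀ u t : F, u * t = t * u := by
      intro u t
      obtain ⟨u, rfl⟩ := e.surjective u
      obtain ⟨t, rfl⟩ := e.surjective t
      rw [← map_mul, ← map_mul]
      congr 1
      funext p P
      haveI : Fact (p : ℕ).Prime := ⟨Nat.prime_of_mem_primeFactors p.2⟩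
      haveI : (P : Subgroup F).Characteristic :=
        P.characteristic_of_normal (Sylow.normal_of_normalizerCondition
          Group.normalizerCondition_of_isNilpotent P)
      have hPn : ((P : Subgroup F).map F.subtype).Normal := inferInstance
      have h := normal_pGroup_comm hρ hirr hℓp hℓ hxz hx hz hNA (p : ℕ) _ _ rfl hPn
        (P.isPGroup'.map _) _ (Subgroup.mem_map_of_mem _ (u p P).2) _
        (Subgroup.mem_map_of_mem _ (t p P).2)
      exact Subtype.ext (F.subtype_injective (by simpa using h))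
    exact congrArg Subtype.val (key ⟨a, ha⟩ ⟨b, hb⟩)
  obtain ⟨a0, ha0, ha02⟩ : ∃ a, UFix ρ a ∧ a ≠ 2 := by
    by_cases h : x = 2
    · exact ⟨z, hz, fun e => hxz (h.trans e.symm)⟩
    · exact ⟨x, hx, h⟩
  haveI := nontrivial_of_dvd hρ hx
  haveI : IsCyclic F := cyclic_of_semiregular ρ F hFab (semiregular hρ hirr hℓp hℓ ha0 ha02 F hFab)
  have key : ∀ r : ℕ, UFix ρ r →
      (∀ S : Sylow r H, (S : Subgroup H) ≤ Subgroup.centralizer (F : Set H)) → False := by
    intro r hr hc
    haveI := Fact.mk hr.prime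
    obtain ⟨w, hw⟩ := exists_ne (0 : V)
    obtain ⟨S, hS⟩ := hr.fixed w hw
    refine not_all_fixed hρ hr S fun u g hg => ?_
    have hgF : g ∈ F := Grp.centralizer_fittingSubgroup_le (hc S hg)
    have hsem := semiregular hρ hirr hℓp hℓ ha0 ha02 F hFab g hgF w hw (hS g hg)
    rw [hsem, act_one]
  rcases centralize_cyclic hx.prime hz.prime hNA F with h | h
  · exact key x hx h
  · exact key z hz h

end Cfsg.Agent.Char.ThreePrimes
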