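import Cfsg.Agent.Lib.Char.PSolvableIto
import Cfsg.Agent.Lib.Fus.TransitivityOdd
import Cfsg.Agent.Lib.Block.DegreeRel.Solvable
import Cfsg.Agent.Lib.Char.ThreePrimes.Core

/-!
# Degree primes of soluble groups: tools

Primes without abelian normal Sylow subgroup, degrees in split extensions, and the dual action on
the linear characters of a normal subgroup.
-/

set_option autoImplicit false
set_option linter.unusedSectionVars false
set_option linter.style.haveILetI false

open Cfsg Cfsg.Agent.Block.DegreeRel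
open scoped Pointwise

namespace Cfsg.Agent.Char.ThreePrimes

universe u

/-- `a` divides some degree. -/
def Deg (G : Type u) [Group G] (a : ℕ) : Prop :=
  ∃ χ : IrrCharacter G, a ∣ charDegree (χ : G → ℂ)

/-- No degree is divisible by both. -/
def NA (G : Type u) [Group G] (a b : ℕ) : Prop :=
  ∀ χ : IrrCharacter G, a ∣ charDegree (χ : G → ℂ) → b ∣ charDegree (χ : G → ℂ) → False

/-- Every Sylow subgroup is normal and abelian. -/
def NormalAb (G : Type u) [Group G] (a : ℕ) : Prop :=
  ∀ P : Sylow a G, (P : Subgroup G).Normal ∧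
    ∀ x ∈ (P : Subgroup G), ∀ y ∈ (P : Subgroup G), x * y = y * x

theorem NA.symm {G : Type u} [Group G] {a b : ℕ} (h : NA G a b) : NA G b a :=
  fun χ hb ha => h χ ha hb

theorem normalAb_of_not_deg {G : Type u} [Group G] [Finite G] [Group.IsSolvable G] {a : ℕ}
    (ha : a.Prime) (h : ¬ Deg G a) : NormalAb G a := by
  haveI := Fact.mk ha
  exact PIto.ito_converse _ G rfl (Fus.TransOdd.isPSolvable_of_solvable ha _ G rfl inferInstance)
    fun χ hχ => h ⟨χ, hχ⟩

theorem not_deg_of_normal {G : Type u} [Group G] [Finite G] {a : ℕ} (ha : a.Prime) (P : Sylow a G)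
    (hn : (P : Subgroup G).Normal)
    (hc : ∀ x ∈ (P : Subgroup G), ∀ y ∈ (P : Subgroup G), x * y = y * x) : ¬ Deg G a := by
  haveI := Fact.mk ha
  haveI := hn
  rintro ⟨χ, hχ⟩
  exact PIto.not_dvd_of_abelian (P : Subgroup G) hc P.not_dvd_index χ hχ

theorem deg_map {G : Type u} [Group G] [Finite G] {Q : Type u} [Group Q] (f : G →* Q)
    (hf : Function.Surjective f) (ψ : IrrCharacter Q) :
    ∃ χ : IrrCharacter G, charDegree (χ : G → ℂ) = charDegree (ψ : Q → ℂ) :=
  ⟨⟨_, IsIrr.comp_surjective f hf ψ.2⟩, by simp [charDegree]⟩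

theorem NA.map {G : Type u} [Group G] [Finite G] {Q : Type u} [Group Q] {a b : ℕ} (h : NA G a b)
    (f : G →* Q) (hf : Function.Surjective f) : NA Q a b := by
  intro ψ ha hb
  obtain ⟨χ, hχ⟩ := deg_map f hf ψ
  exact h χ (hχ ▸ ha) (hχ ▸ hb)

/-- A Sylow subgroup fixing what a normal subgroup of coprime type fixes. -/
theorem le_of_normal_index {G : Type u} [Group G] [Finite G] {a : ℕ} (ha : a.Prime)
    (M T V : Subgroup G) [hM : M.Normal] (hVT : V ≤ T) (hVM : V ≤ M) {k : ℕ}
    (hk : V.relIndex M = a ^ k) (hT : ¬ a ∣ T.index) : M ≤ T := by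
  rw [← Subgroup.relIndex_eq_one]
  have h1 : T.relIndex M ∣ a ^ k := by
    rw [← hk, ← Subgroup.inf_relIndex_right T M]
    exact Subgroup.relIndex_dvd_of_le_left M (le_inf hVT hVM)
  have h2 : T.relIndex M ∣ T.index := by
    obtain ⟨j, hj⟩ : M.relIndex T ∣ M.index := Subgroup.relIndex_dvd_index_of_normal M T
    have e : T.relIndex M * M.index = M.relIndex T * T.index := by
      rw [← Subgroup.inf_relIndex_right T M, ← Subgroup.inf_relIndex_right M T, inf_comm M T,
        Subgroup.relIndex_mul_index inf_le_right, Subgroup.relIndex_mul_index inf_le_left]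
    rw [hj, ← mul_assoc, mul_comm (T.relIndex M), mul_assoc] at e
    exact ⟨j, (Nat.eq_of_mul_eq_mul_left (Nat.pos_of_ne_zero fun h0 =>
      Subgroup.index_ne_zero_of_finite (by rw [hj, h0, zero_mul])) e).symm⟩
  exact Nat.eq_one_of_dvd_coprimes (Nat.Coprime.pow_left k ((ha.coprime_iff_not_dvd).2 hT)) h1 h2

section split

variable {G : Type u} [Group G] [Finite G] (N Hc : Subgroup G) [hN : N.Normal]

/-- The stabiliser of a function on `N` in the complement. -/
def stabIn (θ : N → ℂ) : Subgroup Hc := (inertia N θ).subgroupOf Hc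

/-- Degrees over a character which extends to its stabiliser. -/
theorem exists_over_stab (hc : N.IsComplement' Hc) (θ : IrrCharacter N)
    (hext : ∃ ψ : inertia N (θ : N → ℂ) → ℂ, IsIrrCharacter _ ψ ∧
      ∀ m : N, ψ ⟨m, le_inertia N (IsIrr.classFun θ.2) m.2⟩ = (θ : N → ℂ) m)
    (β : IrrCharacter (stabIn N Hc (θ : N → ℂ))) :
    ∃ χ : IrrCharacter G, charDegree (χ : G → ℂ) = (stabIn N Hc (θ : N → ℂ)).index *
      (charDegree (θ : N → ℂ) * charDegree (β : stabIn N Hc (θ : N → ℂ) → ℂ)) := by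
  classical
  haveI := Fintype.ofFinite G
  haveI := Fintype.ofFinite N
  set T := inertia N (θ : N → ℂ) with hT
  revert β
  set S := stabIn N Hc (θ : N → ℂ) with hS
  intro β
  obtain ⟨ψ, hψ, hψres⟩ := hext
  haveI := Fintype.ofFinite T
  have hNT : N ≤ T := le_inertia N (IsIrr.classFun θ.2)
  let π : G →* Hc := (hc.symm.QuotientMulEquiv.toMonoidHom).comp (QuotientGroup.mk' N)
  have hπid : ∀ h : Hc, π h = h := fun h => by
    show hc.symm.QuotientMulEquiv ((h : G) : G ⧸ N) = h
    rw [← MulEquiv.eq_symm_apply]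
    rfl
  have hπker : ∀ g : G, g ∈ N ↔ π g = 1 := fun g => by
    show g ∈ N ↔ hc.symm.QuotientMulEquiv (g : G ⧸ N) = 1
    rw [MulEquiv.map_eq_one_iff, QuotientGroup.eq_one_iff]
  have hπmem : ∀ g : G, g * (π g : G)⁻¹ ∈ N := fun g => by
    rw [hπker, map_mul, map_inv, hπid, mul_inv_cancel]
  have hTc : S.comap π = T := by
    ext g
    rw [Subgroup.mem_comap, hS, stabIn, Subgroup.mem_subgroupOf]
    constructor
    · intro h
      have := mul_mem (hNT (hπmem g)) h
      rwa [inv_mul_cancel_right] at this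
    · intro h
      have := mul_mem (inv_mem (hNT (hπmem g))) h
      rwa [mul_inv_rev, inv_inv, inv_mul_cancel_right] at this
  let πT : T →* S :=
    { toFun := fun t => ⟨π t, by
        have h : (t : G) ∈ S.comap π := hTc.symm ▸ t.2
        exact h⟩
      map_one' := Subtype.ext (map_one π)
      map_mul' := fun a b => Subtype.ext (map_mul π _ _) }
  have hπT : Function.Surjective πT := fun s =>
    ⟨⟨((s : Hc) : G), Subgroup.mem_subgroupOf.1 s.2⟩, Subtype.ext (hπid s)⟩
  set η : T → ℂ := fun t => (β : S → ℂ) (πT t) with hη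
  have hηi : IsIrrCharacter T η := IsIrr.comp_surjective πT hπT β.2
  haveI : (N.subgroupOf T).Normal := Subgroup.Normal.subgroupOf inferInstance _
  haveI := Fintype.ofFinite (N.subgroupOf T)
  have hker : ∀ x : N.subgroupOf T, η x = η 1 := fun x => by
    simp only [hη]
    refine congrArg _ ?_
    rw [map_one]
    apply Subtype.ext
    exact (hπker _).1 x.2
  have hψres' : IsIrrCharacter (N.subgroupOf T) fun x : N.subgroupOf T => ψ x := by
    have : (fun x : N.subgroupOf T => ψ x) =
        fun x => (θ : N → ℂ) (Subgroup.subgroupOfEquivOfLe hNT x) := by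
      funext x
      exact hψres (Subgroup.subgroupOfEquivOfLe hNT x)
    rw [this]
    exact IsIrr.comp_mulEquiv (Subgroup.subgroupOfEquivOfLe hNT) θ.2
  have hirr : IsIrrCharacter T (ψ * η) := irr_mul_of_res (N.subgroupOf T) hψ hηi hψres' hker
  have hres : (fun n : N => (ψ * η) ⟨(n : G), hNT n.2⟩) = η 1 • (θ : N → ℂ) := by
    funext n
    simp only [Pi.mul_apply, Pi.smul_apply, smul_eq_mul]
    rw [hψres n, mul_comm]
    congr 1
    exact hker ⟨⟨(n : G), hNT n.2⟩, n.2⟩
  obtain ⟨hind, -⟩ := Corr.indFun_irr N θ.2 hT hNT hirr (by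
    rw [hres, classInner_smul_left, classInner_self_irr θ.2, mul_one]
    exact IsIrr.one_ne_zero hηi)
  refine ⟨⟨_, hind⟩, PIto.charDeg_eq ?_⟩
  have hidx : T.index = S.index := by
    rw [← hTc]
    exact Subgroup.index_comap_of_surjective S fun h => ⟨h, hπid h⟩
  have e1 : ψ 1 = charDegree (θ : N → ℂ) := by
    rw [← PIto.charDeg_cast θ, ← hψres 1]
    rfl
  have e2 : η 1 = charDegree (β : S → ℂ) := by
    simp only [hη, map_one]
    exact PIto.charDeg_cast β
  show indFun T (ψ * η) 1 =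
    ((S.index * (charDegree (θ : N → ℂ) * charDegree (β : S → ℂ)) : ℕ) : ℂ)
  rw [indFun_one_eq, Pi.mul_apply, e1, e2, hidx]
  push_cast
  ring

/-- A linear character of an abelian normal subgroup extends to its stabiliser, given a
complement. -/
theorem ext_of_complement (hc : N.IsComplement' Hc) (hab : ∀ a ∈ N, ∀ b ∈ N, a * b = b * a)
    (l : N →* ℂˣ) :
    ∃ ψ : inertia N ((linIrr l : IrrCharacter N) : N → ℂ) → ℂ, IsIrrCharacter _ ψ ∧
      ∀ m : N, ψ ⟨m, le_inertia N (IsIrr.classFun (linIrr l).2) m.2⟩ =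
        ((linIrr l : IrrCharacter N) : N → ℂ) m := by
  classical
  set T := inertia N ((linIrr l : IrrCharacter N) : N → ℂ)
  let π : G →* Hc := (hc.symm.QuotientMulEquiv.toMonoidHom).comp (QuotientGroup.mk' N)
  have hπid : ∀ h : Hc, π h = h := fun h => by
    show hc.symm.QuotientMulEquiv ((h : G) : G ⧸ N) = h
    rw [← MulEquiv.eq_symm_apply]
    rfl
  have hπker : ∀ g : G, g ∈ N ↔ π g = 1 := fun g => by
    show g ∈ N ↔ hc.symm.QuotientMulEquiv (g : G ⧸ N) = 1
    rw [MulEquiv.map_eq_one_iff, QuotientGroup.eq_one_iff]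
  have hπmem : ∀ g : G, g * (π g : G)⁻¹ ∈ N := fun g => by
    rw [hπker, map_mul, map_inv, hπid, mul_inv_cancel]
  have hinv : ∀ g ∈ T, ∀ n : N, l ⟨g * n * g⁻¹, hN.conj_mem n n.2 g⟩ = l n := fun g hg n =>
    Units.ext (congrFun ((mem_inertia N).1 hg) n)
  let L : T →* ℂˣ :=
    { toFun := fun t => l ⟨(t : G) * (π t : G)⁻¹, hπmem _⟩
      map_one' := by
        rw [show (⟨((1 : T) : G) * (π (1 : T) : G)⁻¹, hπmem _⟩ : N) = 1 from Subtype.ext (by simp),
          map_one]
      map_mul' := fun t u => by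
        have hu : (π t : G) ∈ T := by
          have := mul_mem (inv_mem (le_inertia N (IsIrr.classFun (linIrr l).2) (hπmem (t : G)))) t.2
          rwa [mul_inv_rev, inv_inv, inv_mul_cancel_right] at this
        rw [← hinv _ hu ⟨(u : G) * (π u : G)⁻¹, hπmem _⟩, ← map_mul]
        congr 1
        refine Subtype.ext ?_
        show (t : G) * u * (π (t * u : G) : G)⁻¹ =
          (t : G) * (π t : G)⁻¹ * ((π t : G) * ((u : G) * (π u : G)⁻¹) * (π t : G)⁻¹)
        rw [map_mul, Subgroup.coe_mul]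
        group }
  refine ⟨fun t => (L t : ℂ), isIrr_linear L, fun m => ?_⟩
  show (l ⟨(m : G) * (π m : G)⁻¹, _⟩ : ℂ) = (l m : ℂ)
  congr 2
  exact Subtype.ext (by simp [(hπker _).1 m.2])

/-- Extension in the coprime case. -/
theorem ext_of_coprime (hcop : Nat.Coprime (Nat.card N) N.index) (θ : IrrCharacter N) :
    ∃ ψ : inertia N (θ : N → ℂ) → ℂ, IsIrrCharacter _ ψ ∧
      ∀ m : N, ψ ⟨m, le_inertia N (IsIrr.classFun θ.2) m.2⟩ = (θ : N → ℂ) m := by
  classical
  haveI := Fintype.ofFinite G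
  haveI := Fintype.ofFinite N
  set T := inertia N (θ : N → ℂ) with hT
  have hNT : N ≤ T := le_inertia N (IsIrr.classFun θ.2)
  haveI hn' : (N.subgroupOf T).Normal := Subgroup.Normal.subgroupOf inferInstance _
  haveI := Fintype.ofFinite (N.subgroupOf T)
  set θ' : N.subgroupOf T → ℂ := fun x => (θ : N → ℂ) (Subgroup.subgroupOfEquivOfLe hNT x) with hθ'
  have hθi : IsIrrCharacter (N.subgroupOf T) θ' :=
    IsIrr.comp_mulEquiv (Subgroup.subgroupOfEquivOfLe hNT) θ.2
  have hd : θ' 1 = (charDegree (θ : N → ℂ) : ℂ) := by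
    simp only [hθ', map_one]
    exact PIto.charDeg_cast θ
  have hcard : Nat.card (N.subgroupOf T) = Nat.card N :=
    Nat.card_congr (Subgroup.subgroupOfEquivOfLe hNT).toEquiv
  have hci : Nat.Coprime (N.subgroupOf T).index (Nat.card N) :=
    (hcop.coprime_dvd_right (Subgroup.relIndex_dvd_index_of_normal (H := N) (K := T))).symm
  obtain ⟨δ, hδ⟩ := isCharacter_detChar hθi
  have hord : orderOf (detChar θ') ∣ Nat.card N := by
    refine orderOf_dvd_of_pow_eq_one ?_
    rw [hδ]
    funext n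
    rw [Pi.pow_apply, Pi.one_apply, ← Units.val_pow_eq_pow_val, ← map_pow, ← hcard, pow_card_eq_one',
      map_one, Units.val_one]
  have hdeg : charDegree (θ : N → ℂ) ∣ Nat.card N := Cfsg.Agent.Block.charDeg_dvd θ
  obtain ⟨ψ, hψ, hres⟩ := Ext.exists_extension_of_witness hθi (fun g n => by
    have h := congrFun ((mem_inertia N).1 g.2) (Subgroup.subgroupOfEquivOfLe hNT n)
    exact h) hd fun p hp =>
      Ext.witness_of_coprime hθi ((hci.coprime_dvd_right hord).mul_right
        (hci.coprime_dvd_right hdeg)) hp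
  exact ⟨ψ, hψ, fun m => hres ⟨⟨m, hNT m.2⟩, m.2⟩⟩

/-- If no degree over `θ` is divisible by `a`, the stabiliser has an abelian normal Sylow
`a`-subgroup of full order. -/
theorem stab_sylow [Group.IsSolvable G] (hc : N.IsComplement' Hc) (θ : IrrCharacter N)
    (hext : ∃ ψ : inertia N (θ : N → ℂ) → ℂ, IsIrrCharacter _ ψ ∧
      ∀ m : N, ψ ⟨m, le_inertia N (IsIrr.classFun θ.2) m.2⟩ = (θ : N → ℂ) m)
    {a b : ℕ} (ha : a.Prime) (hNA : NA G a b)
    (hb : b ∣ (stabIn N Hc (θ : N → ℂ)).index * charDegree (θ : N → ℂ)) :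
    ¬ a ∣ (stabIn N Hc (θ : N → ℂ)).index ∧ NormalAb (stabIn N Hc (θ : N → ℂ)) a := by
  haveI := Fintype.ofFinite G
  set S := stabIn N Hc (θ : N → ℂ)
  have key : ∀ β : IrrCharacter S, a ∣ S.index ∨ a ∣ charDegree (β : S → ℂ) → False := by
    intro β h
    obtain ⟨χ, hχ⟩ := exists_over_stab N Hc hc θ hext β
    refine hNA χ ?_ ?_
    · rw [hχ]
      rcases h with h | h
      · exact h.mul_right _
      · exact (h.mul_left _).mul_left _
    · rw [hχ, ← mul_assoc]
      exact hb.mul_right _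
  refine ⟨fun h => key ⟨_, isIrr_one⟩ (Or.inl h), normalAb_of_not_deg ha ?_⟩
  rintro ⟨β, hβ⟩
  exact key β (Or.inr hβ)

end split

/-- A subgroup with a normal Sylow subgroup of full order contains exactly one of them. -/
theorem unique_sylow {U : Type u} [Group U] [Finite U] {a : ℕ} [Fact a.Prime] {T : Subgroup U}
    (hidx : ¬ a ∣ T.index) (hn : NormalAb T a) :
    (∃ S : Sylow a U, (S : Subgroup U) ≤ T) ∧
      (∀ S S' : Sylow a U, (S : Subgroup U) ≤ T → (S' : Subgroup U) ≤ T → S = S') ∧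
      ∀ S : Sylow a U, ∀ x ∈ (S : Subgroup U), ∀ y ∈ (S : Subgroup U), x * y = y * x := by
  obtain ⟨S₀⟩ : Nonempty (Sylow a T) := inferInstance
  haveI := (hn S₀).1
  obtain ⟨S₁, hS₁⟩ := ((S₀.isPGroup').map T.subtype).exists_le_sylow
  have hcard : Nat.card S₀ = Nat.card S₁ := by
    rw [Sylow.card_eq_multiplicity, Sylow.card_eq_multiplicity, ← Subgroup.card_mul_index T,
      Nat.factorization_mul Nat.card_pos.ne' Subgroup.index_ne_zero_of_finite, Finsupp.add_apply,
      Nat.factorization_eq_zero_of_not_dvd hidx, add_zero]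
  have hS₁T : (S₁ : Subgroup U) = (S₀ : Subgroup T).map T.subtype :=
    (Subgroup.eq_of_le_of_card_ge hS₁ (by
      rw [Subgroup.card_map_of_injective T.subtype_injective]; exact hcard.ge)).symm
  have huniq : ∀ S : Sylow a U, (S : Subgroup U) ≤ T → S = S₁ := by
    intro S hS
    haveI : Subsingleton (Sylow a T) := (Sylow.unique_of_normal S₀ inferInstance).instSubsingleton
    refine Sylow.ext ?_
    rw [hS₁T, ← Subsingleton.elim (S.subtype hS) S₀, Sylow.coe_subtype,
      Subgroup.subgroupOf_map_subtype, inf_eq_left.2 hS]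
  refine ⟨⟨S₁, hS₁T ▸ Subgroup.map_subtype_le _⟩,
    fun S S' h h' => (huniq S h).trans (huniq S' h').symm, fun S x hx y hy => ?_⟩
  obtain ⟨g, rfl⟩ := MulAction.exists_smul_eq U S₁ S
  rw [Sylow.coe_subgroup_smul, Grp.mem_smul_conj, hS₁T] at hx hy
  obtain ⟨x', hx', ex⟩ := hx
  obtain ⟨y', hy', ey⟩ := hy
  have e := congrArg T.subtype ((hn S₀).2 x' hx' y' hy')
  rw [map_mul, map_mul, ex, ey] at e
  calc x * y = g * (g⁻¹ * x * g * (g⁻¹ * y * g)) * g⁻¹ := by group
    _ = y * x := by rw [e]; group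

/-- Transfer of the core statement to an action which need not be faithful. -/
theorem core_apply {U : Type u} [Group U] [Finite U] [Group.IsSolvable U] {W : Type*}
    [AddCommGroup W] [Finite W] [Nontrivial W] (ρ : U →* AddMonoid.End W) (hirr : Irred ρ) {ℓ : ℕ}
    (hℓp : ℓ.Prime) (hℓ : ∀ w : W, ℓ • w = 0) {x z : ℕ} (hxp : x.Prime) (hzp : z.Prime) (hxz : x ≠ z)
    (hfix : ∀ r : ℕ, r = x ∨ r = z → (∀ S : Sylow r U, ¬ (S : Subgroup U).Normal) ∧
      ∀ w : W, w ≠ 0 → (∃ S : Sylow r U, w ∈ fixS ρ (S : Subgroup U)) ∧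
        ∀ S S' : Sylow r U, w ∈ fixS ρ (S : Subgroup U) → w ∈ fixS ρ (S' : Subgroup U) → S = S')
    (hNA : NA U x z) : False := by
  classical
  set K := MonoidHom.ker ρ with hK
  set ρ' : U ⧸ K →* AddMonoid.End W := QuotientGroup.lift K ρ (fun k hk => hk) with hρ'
  have hmk : ∀ u : U, ρ' (u : U ⧸ K) = ρ u := fun u => rfl
  have hinj : Function.Injective ρ' := by
    intro a b hab
    induction a using QuotientGroup.induction_on with
    | _ a =>
      induction b using QuotientGroup.induction_on with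
      | _ b =>
        rw [hmk, hmk] at hab
        refine QuotientGroup.eq.2 ?_
        show ρ (a⁻¹ * b) = 1
        rw [map_mul, ← hab, ← map_mul, inv_mul_cancel, map_one]
  have hsurj := QuotientGroup.mk'_surjective K
  have hU : ∀ r : ℕ, r.Prime → r = x ∨ r = z → UFix ρ' r := by
    intro r hr hrx
    haveI := Fact.mk hr
    obtain ⟨hnn, hw⟩ := hfix r hrx
    have hfixmap : ∀ (S : Sylow r U) (w : W),
        w ∈ fixS ρ' ((S.mapSurjective hsurj : Sylow r (U ⧸ K)) : Subgroup (U ⧸ K)) ↔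
          w ∈ fixS ρ (S : Subgroup U) := by
      intro S w
      rw [Sylow.coe_mapSurjective]
      constructor
      · intro h s hs
        exact h _ (Subgroup.mem_map_of_mem _ hs)
      · rintro h _ ⟨s, hs, rfl⟩
        exact h s hs
    refine ⟨hr, ?_, fun w hw0 => ?_, fun w hw0 S T hS hT => ?_⟩
    · by_contra hd
      obtain ⟨S⟩ : Nonempty (Sylow r U) := inferInstance
      refine hnn S ?_
      have hall : ∀ (T : Sylow r U) (w : W), w ∈ fixS ρ (T : Subgroup U) := by
        intro T w t ht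
        obtain ⟨k, hk⟩ := IsPGroup.iff_orderOf.1 T.isPGroup' ⟨t, ht⟩
        rw [Subgroup.orderOf_mk] at hk
        have h1 : ((t : U ⧸ K)) = 1 := orderOf_eq_one_iff.1 (Nat.eq_one_of_dvd_coprimes
          (Nat.Coprime.pow_left k ((hr.coprime_iff_not_dvd).2 hd))
          (hk ▸ orderOf_map_dvd (QuotientGroup.mk' K) t) (orderOf_dvd_natCard _))
        rw [← hmk, h1, map_one]
        rfl
      obtain ⟨w, hw0⟩ := exists_ne (0 : W)
      haveI : Subsingleton (Sylow r U) :=
        ⟨fun A B => (hw w hw0).2 A B (hall A w) (hall B w)⟩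
      exact Sylow.normal_of_subsingleton S
    · obtain ⟨S, hS⟩ := (hw w hw0).1
      exact ⟨S.mapSurjective hsurj, (hfixmap S w).2 hS⟩
    · obtain ⟨S, rfl⟩ := Sylow.mapSurjective_surjective hsurj r S
      obtain ⟨T, rfl⟩ := Sylow.mapSurjective_surjective hsurj r T
      rw [(hw w hw0).2 S T ((hfixmap S w).1 hS) ((hfixmap T w).1 hT)]
  refine core_false hinj (fun L hL => hirr L fun h w hw => hL (h : U ⧸ K) w hw) hℓp hℓ hxz
    (hU x hxp (Or.inl rfl)) (hU z hzp (Or.inr rfl)) (hNA.map _ hsurj)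

section dual

/-- Endomorphisms of an abelian group. -/
abbrev EndAb (V : Type*) [AddCommGroup V] := AddMonoid.End V

variable {G : Type u} [Group G] [Finite G] (N U : Subgroup G) [hN : N.Normal]

/-- The action of `U` on the linear characters of `N`. -/
noncomputable def dualRep : U →* EndAb (Additive (N →* ℂˣ)) where
  toFun u := MonoidHom.toAdditive
    { toFun := fun l => l.comp (conjEquivN N ((u : G)⁻¹)).toMonoidHom
      map_one' := rfl
      map_mul' := fun _ _ => rfl }
  map_one' := by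
    refine AddMonoidHom.ext fun l => Additive.toMul.injective (MonoidHom.ext fun n => ?_)
    show (Additive.toMul l) (conjEquivN N ((1 : U) : G)⁻¹ n) = (Additive.toMul l) n
    congr 1
    exact Subtype.ext (by simp [conjEquivN_apply])
  map_mul' a b := by
    refine AddMonoidHom.ext fun l => Additive.toMul.injective (MonoidHom.ext fun n => ?_)
    show (Additive.toMul l) (conjEquivN N ((a * b : U) : G)⁻¹ n) =
      (Additive.toMul l) (conjEquivN N (b : G)⁻¹ (conjEquivN N (a : G)⁻¹ n))
    congr 1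
    exact Subtype.ext (by simp [conjEquivN_apply, mul_assoc])

theorem dualRep_apply (u : U) (l : N →* ℂˣ) (n : N) :
    Additive.toMul (dualRep N U u (Additive.ofMul l)) n = l (conjEquivN N ((u : G)⁻¹) n) := rfl

theorem fixS_dualRep (l : N →* ℂˣ) (S : Subgroup U) :
    Additive.ofMul l ∈ fixS (dualRep N U) S ↔ S ≤ stabIn N U ((linIrr l : IrrCharacter N) : N → ℂ) := by
  constructor
  · intro h u hu
    rw [stabIn, Subgroup.mem_subgroupOf, mem_inertia]
    funext n
    have e := congrArg (fun f => ((Additive.toMul f) n : ℂ)) (h u⁻¹ (inv_mem hu))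
    rw [conjN_eq_comp]
    refine Eq.trans ?_ e
    show (l (conjEquivN N (u : G) n) : ℂ) = (l (conjEquivN N ((u⁻¹ : U) : G)⁻¹ n) : ℂ)
    rw [Subgroup.coe_inv, inv_inv]
  · intro h u hu
    refine Additive.toMul.injective (MonoidHom.ext fun n => Units.ext ?_)
    have e := congrFun ((mem_inertia N).1 (Subgroup.mem_subgroupOf.1 (h (inv_mem hu)))) n
    rw [conjN_eq_comp] at e
    rw [dualRep_apply]
    refine Eq.trans ?_ e
    show (l (conjEquivN N ((u : G)⁻¹) n) : ℂ) = (l (conjEquivN N ((u⁻¹ : U) : G) n) : ℂ)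
    rw [Subgroup.coe_inv]

theorem dual_exponent {ℓ : ℕ} (hexp : ∀ n ∈ N, n ^ ℓ = 1) (w : Additive (N →* ℂˣ)) : ℓ • w = 0 := by
  refine Additive.toMul.injective (MonoidHom.ext fun n => ?_)
  show ((Additive.toMul w) ^ ℓ) n = 1
  rw [MonoidHom.pow_apply, ← map_pow, show n ^ ℓ = 1 from Subtype.ext (hexp n n.2), map_one]

theorem dual_finite {X : Type u} [Group X] [Finite X] : Finite (X →* ℂˣ) := by
  haveI := Fintype.ofFinite X
  exact Finite.of_injective (fun l => (⟨_, isIrr_linear l⟩ : IrrCharacter X)) fun a b h =>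
    MonoidHom.ext fun n => Units.ext (congrFun (congrArg Subtype.val h) n)

theorem dual_nontrivial (hne : N ≠ ⊥) (hab : ∀ a ∈ N, ∀ b ∈ N, a * b = b * a) :
    Nontrivial (Additive (N →* ℂˣ)) := by
  obtain ⟨x, hx, hx1⟩ := N.bot_or_exists_ne_one.resolve_left hne
  letI : CommGroup N := { (inferInstance : Group N) with
    mul_comm := fun a b => Subtype.ext (hab a a.2 b b.2) }
  obtain ⟨φ, hφ⟩ := CommGroup.exists_apply_ne_one_of_hasEnoughRootsOfUnity N ℂ
    (a := (⟨x, hx⟩ : N)) (fun e => hx1 (congrArg Subtype.val e))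
  exact ⟨Additive.ofMul φ, 0, fun e => hφ (by
    have h1 : φ = (1 : N →* ℂˣ) := congrArg Additive.toMul e
    rw [h1]; rfl)⟩

theorem dual_irred (hab : ∀ a ∈ N, ∀ b ∈ N, a * b = b * a)
    (hmin : ∀ K : Subgroup G, K.Normal → K ≤ N → K = ⊥ ∨ K = N)
    (hgen : ∀ g : G, ∃ u : U, ∀ n ∈ N, g * n * g⁻¹ = u * n * (u : G)⁻¹) :
    Irred (dualRep N U) := by
  classical
  letI : CommGroup N := { (inferInstance : Group N) with
    mul_comm := fun a b => Subtype.ext (hab a a.2 b b.2) }
  intro L hL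
  let M : Subgroup N := ⨅ l : {l : N →* ℂˣ // Additive.ofMul l ∈ L}, (l : N →* ℂˣ).ker
  have hmem : ∀ n : N, n ∈ M ↔ ∀ l : N →* ℂˣ, Additive.ofMul l ∈ L → l n = 1 := by
    intro n
    simp [M, Subgroup.mem_iInf]
  have hn : (M.map N.subtype).Normal := by
    refine ⟨?_⟩
    rintro _ ⟨n, hnM, rfl⟩ g
    obtain ⟨u, hu⟩ := hgen g
    refine ⟨conjEquivN N g n, (hmem _).2 fun l hl => ?_, by simp [conjEquivN_apply]⟩
    have h := (hmem n).1 hnM _ (hL u⁻¹ _ hl)
    refine Eq.trans (congrArg l (Subtype.ext ?_)) h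
    simp [conjEquivN_apply, hu n n.2]
  rcases hmin _ hn (Subgroup.map_subtype_le _) with h | h
  · refine Or.inr (eq_top_iff.2 fun w _ => ?_)
    obtain ⟨l₀, rfl⟩ := Additive.ofMul.surjective w
    let L' : Subgroup (N →* ℂˣ) := AddSubgroup.toSubgroup' L
    haveI := dual_finite (X := N)
    have hev : Function.Injective fun n : N =>
        ({ toFun := fun l => ((l : L') : N →* ℂˣ) n, map_one' := rfl, map_mul' := fun _ _ => rfl } :
          L' →* ℂˣ) := by
      intro a b hab'
      rw [← inv_mul_eq_one]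
      have : a⁻¹ * b ∈ M := (hmem _).2 fun l hl => by
        have e := DFunLike.congr_fun hab' (⟨l, hl⟩ : L')
        simp only [MonoidHom.coe_mk, OneHom.coe_mk] at e
        rw [map_mul, map_inv, e, inv_mul_cancel]
      have h' := Subgroup.mem_map_of_mem N.subtype this
      rw [h, Subgroup.mem_bot] at h'
      exact Subtype.ext h'
    haveI : Finite (L' →* ℂˣ) := dual_finite (X := L')
    have hc := Nat.card_le_card_of_injective _ hev
    rw [CommGroup.card_monoidHom_of_hasEnoughRootsOfUnity] at hc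
    have htop : L' = ⊤ := Subgroup.eq_top_of_le_card _ (by
      rw [CommGroup.card_monoidHom_of_hasEnoughRootsOfUnity]; exact hc)
    have : l₀ ∈ L' := htop ▸ Subgroup.mem_top _
    exact this
  · refine Or.inl ((AddSubgroup.eq_bot_iff_forall _).2 fun w hw => ?_)
    refine Additive.toMul.injective (MonoidHom.ext fun n => ?_)
    have : (n : G) ∈ M.map N.subtype := h.symm ▸ n.2
    obtain ⟨m, hm, e⟩ := this
    obtain rfl : m = n := Subtype.ext e
    exact (hmem m).1 hm _ hw

end dual

end Cfsg.Agent.Char.ThreePrimes
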