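import Cfsg.Agent.Lib.Char.ThreePrimes.Split

/-!
# Three pairwise non-adjacent degree primes: the case with a normal Sylow subgroup
-/

set_option autoImplicit false
set_option linter.unusedSectionVars false
set_option linter.style.haveILetI false

open Cfsg Cfsg.Agent.Block Cfsg.Agent.Block.DegreeRel
open scoped Pointwise commutatorElement ComplexConjugate

namespace Cfsg.Agent.Char.ThreePrimes

universe u v

/-- Two exact partitions of vector spaces by subspaces in the same number have the same size. -/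
theorem partition_eq {p : ℕ} (hp : p.Prime) {n N M a b : ℕ} (hn : 1 < n) (hN : N ≠ 0) (hM : M ≠ 0)
    (h1 : p ^ N + n = n * p ^ a + 1) (h2 : p ^ M + n = n * p ^ b + 1) : N = M := by
  have key : ∀ K c : ℕ, K ≠ 0 → p ^ K + n = n * p ^ c + 1 →
      c ≠ 0 ∧ ((p : ℤ) ^ c ∣ (n : ℤ) - 1) ∧ ¬ ((p : ℤ) ^ (c + 1) ∣ (n : ℤ) - 1) := by
    intro K c hK h
    have h2K : 2 ≤ p ^ K := hp.two_le.trans (Nat.le_self_pow hK p)
    have hc : c ≠ 0 := by rintro rfl; rw [pow_zero, mul_one] at h; omega
    have hcK : c < K := by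
      by_contra hle
      push Not at hle
      have := Nat.pow_le_pow_right hp.pos hle
      nlinarith [Nat.mul_le_mul_left n this]
    have e : (n : ℤ) - 1 = (p : ℤ) ^ c * ((n : ℤ) - (p : ℤ) ^ (K - c)) := by
      have hz : (p : ℤ) ^ K + n = n * (p : ℤ) ^ c + 1 := by exact_mod_cast h
      rw [mul_sub, ← pow_add, Nat.add_sub_cancel' hcK.le]
      linarith
    refine ⟨hc, ⟨_, e⟩, fun hd => ?_⟩
    rw [e, pow_succ] at hd
    have hd' := (mul_dvd_mul_iff_left (pow_ne_zero c (Int.natCast_ne_zero.2 hp.ne_zero))).1 hd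
    have h3 : (p : ℤ) ∣ (n : ℤ) := by
      have := dvd_add hd' (dvd_pow_self (p : ℤ) (Nat.sub_pos_of_lt hcK).ne')
      simpa using this
    have h4 : (p : ℤ) ∣ (n : ℤ) - 1 :=
      (dvd_pow_self (p : ℤ) hc).trans ⟨_, e⟩
    have h5 := dvd_sub h3 h4
    rw [sub_sub_cancel, show (1 : ℤ) = ((1 : ℕ) : ℤ) from rfl, Int.natCast_dvd_natCast,
      Nat.dvd_one] at h5
    exact hp.ne_one h5
  obtain ⟨-, ha1, ha2⟩ := key N a hN h1
  obtain ⟨-, hb1, hb2⟩ := key M b hM h2
  have hab : a = b := by
    rcases Nat.lt_trichotomy a b with h | h | h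
    · exact absurd ((pow_dvd_pow (p : ℤ) h).trans hb1) ha2
    · exact h
    · exact absurd ((pow_dvd_pow (p : ℤ) h).trans ha1) hb2
  subst hab
  exact Nat.pow_right_injective hp.two_le (show p ^ N = p ^ M by omega)

/-- Counting an invariant subgroup covered exactly by the fixed vectors of Sylow subgroups. -/
theorem partition_count {U : Type u} [Group U] [Finite U] {W : Type v} [AddCommGroup W] [Finite W]
    (ρ : U →* AddMonoid.End W) (L : AddSubgroup W) (hL : ∀ u : U, ∀ w ∈ L, ρ u w ∈ L) {r : ℕ}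
    [Fact r.Prime] (hfix : ∀ w ∈ L, w ≠ 0 → (∃ S : Sylow r U, w ∈ fixS ρ (S : Subgroup U)) ∧
      ∀ S S' : Sylow r U, w ∈ fixS ρ (S : Subgroup U) → w ∈ fixS ρ (S' : Subgroup U) → S = S')
    (S₀ : Sylow r U) :
    Nat.card L + Nat.card (Sylow r U) =
      Nat.card (Sylow r U) * Nat.card ↥(L ⊓ fixS ρ (S₀ : Subgroup U)) + 1 := by
  classical
  haveI := Fintype.ofFinite W
  haveI := Fintype.ofFinite (Sylow r U)
  let s : Sylow r U → Finset W := fun S =>
    Finset.univ.filter fun w => w ≠ 0 ∧ w ∈ L ∧ w ∈ fixS ρ (S : Subgroup U)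
  let c : ℕ := Nat.card ↥(L ⊓ fixS ρ (S₀ : Subgroup U))
  have hK : ∀ K : AddSubgroup W, (Finset.univ.filter fun w => w ≠ 0 ∧ w ∈ K).card + 1 = Nat.card K := by
    intro K
    rw [Nat.card_eq_fintype_card, Fintype.card_subtype,
      show (Finset.univ.filter fun w => w ≠ 0 ∧ w ∈ K) =
        (Finset.univ.filter fun w => w ∈ K).erase 0 by ext w; simp [and_comm],
      Finset.card_erase_add_one (by simp [AddSubgroup.zero_mem])]
  have hsame : ∀ S : Sylow r U, (s S).card + 1 = c := by
    intro S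
    obtain ⟨g, hg⟩ := MulAction.exists_smul_eq U S₀ S
    have hgm : ∀ t, t ∈ (S : Subgroup U) ↔ g⁻¹ * t * g ∈ (S₀ : Subgroup U) := fun t => by
      rw [← hg, Sylow.coe_subgroup_smul, Grp.mem_smul_conj]
    have hmap : ∀ w, w ∈ fixS ρ (S₀ : Subgroup U) ↔ ρ g w ∈ fixS ρ (S : Subgroup U) := by
      intro w
      constructor
      · intro hw t ht
        rw [act_act, show t * g = g * (g⁻¹ * t * g) by group, ← act_act, hw _ ((hgm t).1 ht)]
      · intro hw t ht
        have h1 := hw (g * t * g⁻¹) ((hgm _).2 (by simpa [mul_assoc] using ht))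
        have h2 := congrArg (ρ g⁻¹) h1
        rwa [act_act, act_act, act_inv, show g⁻¹ * (g * t * g⁻¹) * g = t by group] at h2
    rw [show c = Nat.card ↥(L ⊓ fixS ρ (S₀ : Subgroup U)) from rfl, ← hK]
    congr 1
    refine (Finset.card_bij (fun w _ => ρ g w) ?_ ?_ ?_).symm
    · intro w hw
      simp only [Finset.mem_filter, Finset.mem_univ, true_and, s, AddSubgroup.mem_inf] at hw ⊢
      exact ⟨fun e => hw.1 (by rw [← act_inv ρ g w, e, map_zero]), hL g w hw.2.1, (hmap w).1 hw.2.2⟩
    · intro w _ w' _ e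
      rw [← act_inv ρ g w, e, act_inv]
    · intro w hw
      simp only [Finset.mem_filter, Finset.mem_univ, true_and, s, AddSubgroup.mem_inf] at hw ⊢
      have e : ρ g (ρ g⁻¹ w) = w := by rw [act_act, mul_inv_cancel, act_one]
      refine ⟨ρ g⁻¹ w, ⟨fun e' => hw.1 (by rw [← e, e', map_zero]), hL _ w hw.2.1, ?_⟩, e⟩
      rw [hmap, e]
      exact hw.2.2
  have hcov : (Finset.univ.filter fun w => w ≠ 0 ∧ w ∈ L) = Finset.univ.biUnion s := by
    ext w
    simp only [Finset.mem_filter, Finset.mem_univ, true_and, Finset.mem_biUnion, s]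
    constructor
    · intro hw
      obtain ⟨S, hS⟩ := (hfix w hw.2 hw.1).1
      exact ⟨S, hw.1, hw.2, hS⟩
    · rintro ⟨S, h0, hwL, -⟩
      exact ⟨h0, hwL⟩
  have hdis : ∀ S ∈ (Finset.univ : Finset (Sylow r U)), ∀ S' ∈ (Finset.univ : Finset (Sylow r U)),
      S ≠ S' → Disjoint (s S) (s S') := by
    intro S _ S' _ hne
    rw [Finset.disjoint_left]
    intro w h h'
    simp only [Finset.mem_filter, Finset.mem_univ, true_and, s] at h h'
    exact hne ((hfix w h.2.1 h.1).2 S S' h.2.2 h'.2.2)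
  have e := hK L
  rw [hcov, Finset.card_biUnion hdis] at e
  rw [← e, Nat.card_eq_fintype_card]
  have : ∑ S : Sylow r U, (s S).card + Fintype.card (Sylow r U) = Fintype.card (Sylow r U) * c := by
    rw [← Finset.card_univ, Finset.card_eq_sum_ones, ← Finset.sum_add_distrib,
      Finset.sum_congr rfl fun S _ => hsame S, Finset.sum_const, smul_eq_mul,
      ← Finset.card_eq_sum_ones]
  simp only [c] at this
  omega

variable {G : Type u} [Group G] [Finite G] {p q r : ℕ}

/-- Irreducible characters over a linear character of a central subgroup inside the derived one. -/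
def OverL {X : Type u} [Group X] {V : Type u} [Group V] (j : V →* X) (θ : X → ℂ) (l : V →* ℂˣ) :
    Prop := ∀ v : V, θ (j v) = θ 1 * (l v : ℂ)

/-- The case of a normal Sylow subgroup. -/
theorem normal_case [Group.IsSolvable G] (h : Hyp G p q r) (P : Sylow p G)
    (hPn : (P : Subgroup G).Normal) : False := by
  classical
  haveI := Fintype.ofFinite G
  haveI := Fact.mk h.hp
  haveI := hPn
  set N : Subgroup G := (P : Subgroup G) with hN
  haveI := Fintype.ofFinite N
  have hPp : IsPGroup p N := P.isPGroup'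
  have hnab : ⁅N, N⁆ ≠ ⊥ := fun e => not_deg_of_normal h.hp P hPn
    (fun x hx y hy => commutatorElement_eq_one_iff_mul_comm.1
      ((Subgroup.eq_bot_iff_forall _).1 e _ (Subgroup.commutator_mem_commutator hx hy))) h.dp
  have hcopN : Nat.Coprime (Nat.card N) N.index := P.card_coprime_index
  obtain ⟨Hc, hc⟩ := Subgroup.exists_right_complement'_of_coprime hcopN
  -- a minimal normal subgroup in the centre and the derived group
  set M₀ := ⁅N, N⁆ ⊓ Subgroup.centralizer (N : Set G) with hM₀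
  haveI : M₀.Normal := inferInstance
  have hM₀ne : M₀ ≠ ⊥ := by
    intro e
    letI : MulAction N (⁅N, N⁆ : Subgroup G) :=
      { smul := fun x c => ⟨(x : G) * c * (x : G)⁻¹,
          (inferInstance : (⁅N, N⁆ : Subgroup G).Normal).conj_mem _ c.2 _⟩
        one_smul := fun c => Subtype.ext (show (1 : G) * c * (1 : G)⁻¹ = c by simp)
        mul_smul := fun x y c => Subtype.ext
          (show (x : G) * y * c * ((x : G) * y)⁻¹ = x * (y * c * (y : G)⁻¹) * (x : G)⁻¹ by group) }
    have hd : p ∣ Nat.card (⁅N, N⁆ : Subgroup G) := by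
      obtain ⟨k, hk⟩ := IsPGroup.iff_card.1 (hPp.to_le (Subgroup.commutator_le_self N))
      rw [hk]
      exact dvd_pow_self p fun h0 => hnab (Subgroup.card_eq_one.1 (by rw [hk, h0, pow_zero]))
    obtain ⟨c, hc', hc1⟩ := hPp.exists_fixed_point_of_prime_dvd_card_of_fixed_point
      (⁅N, N⁆ : Subgroup G) hd (a := 1)
      (fun x => Subtype.ext (show (x : G) * (1 : G) * (x : G)⁻¹ = 1 by simp))
    refine hc1 (Subtype.ext ((Subgroup.eq_bot_iff_forall _).1 e _
      ⟨c.2, Subgroup.mem_centralizer_iff.2 fun x hx => ?_⟩)).symm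
    exact mul_inv_eq_iff_eq_mul.1 (congrArg Subtype.val (hc' ⟨x, hx⟩))
  obtain ⟨V, hVn, hVne, hVM, hmin⟩ := Grp.exists_minimal_normal_le hM₀ne
  haveI := hVn
  haveI := Fintype.ofFinite V
  have hVD : V ≤ ⁅N, N⁆ := hVM.trans inf_le_left
  have hVN : V ≤ N := hVD.trans (Subgroup.commutator_le_self N)
  have hVcent : ∀ v ∈ V, ∀ x ∈ N, x * v = v * x := fun v hv x hx =>
    Subgroup.mem_centralizer_iff.1 (hVM hv).2 x hx
  have hab : ∀ a ∈ V, ∀ b ∈ V, a * b = b * a := fun a ha b hb => hVcent b hb a (hVN ha)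
  obtain ⟨-, ℓ, hℓp, hexp⟩ := Grp.minimal_normal_solvable (N := V) inferInstance hVne hmin
  letI : CommGroup V := { (inferInstance : Group V) with
    mul_comm := fun a b => Subtype.ext (hab a a.2 b b.2) }
  let j : V →* N := Subgroup.inclusion hVN
  have hjcomm : ∀ v : V, j v ∈ commutator N := by
    intro v
    have hv := hVD v.2
    rw [← Subgroup.map_subtype_commutator] at hv
    obtain ⟨y, hy, e⟩ := hv
    rwa [show j v = y from Subtype.ext e.symm]
  have hlin1 : ∀ θ : IrrCharacter N, charDegree (θ : N → ℂ) = 1 → ∀ v : V, (θ : N → ℂ) (j v) = 1 := by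
    intro θ h1 v
    obtain ⟨μ, hμ⟩ := linearHom_of_isCharacter (IsIrr.isCharacter θ.2) (by
      rw [PIto.charDeg_cast θ, h1, Nat.cast_one])
    rw [congrFun hμ (j v), Abelianization.commutator_subset_ker μ (hjcomm v), Units.val_one]
  have hpdeg : ∀ θ : IrrCharacter N, charDegree (θ : N → ℂ) ≠ 1 → p ∣ charDegree (θ : N → ℂ) := by
    intro θ h1
    obtain ⟨k, hk⟩ := IsPGroup.iff_card.1 hPp
    obtain ⟨i, -, hi⟩ := (Nat.dvd_prime_pow h.hp).1 (hk ▸ Cfsg.Agent.Block.charDeg_dvd θ)
    rw [hi] at h1 ⊢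
    exact dvd_pow_self p fun h0 => h1 (by rw [h0, pow_zero])
  -- characters over a non-trivial character of `V` have degree divisible by `p`
  have hoverp : ∀ l : V →* ℂˣ, l ≠ 1 → ∀ χ : IrrCharacter G, Over χ (linIrr l) →
      p ∣ charDegree (χ : G → ℂ) := by
    intro l hl χ hχ
    by_contra hpd
    have hres : IsCharacter N fun x : N => (χ : G → ℂ) x := IsChar.res (irr_isChar χ) N
    obtain ⟨a, ha, hd⟩ := IsChar.exists_decomp_inner hres
    have hone : ∀ θ : IrrCharacter N, a θ ≠ 0 → ∀ v : V, (θ : N → ℂ) (j v) = (θ : N → ℂ) 1 := by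
      intro θ hθ v
      have hov : Over χ θ := by
        show classInner (fun x : N => (χ : G → ℂ) x) (θ : N → ℂ) ≠ 0
        rw [ha θ]; exact Nat.cast_ne_zero.2 hθ
      have h1 : charDegree (θ : N → ℂ) = 1 := by
        by_contra h1
        exact hpd ((hpdeg θ h1).trans (deg_dvd hov))
      rw [hlin1 θ h1 v, PIto.charDeg_cast θ, h1, Nat.cast_one]
    have hconst : (fun v : V => (χ : G → ℂ) v) = (χ : G → ℂ) 1 • fun _ => (1 : ℂ) := by
      funext v
      have e1 := congrFun hd (j v)
      have e2 := congrFun hd 1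
      rw [sum_irr_apply] at e1 e2
      rw [Pi.smul_apply, smul_eq_mul, mul_one]
      show (χ : G → ℂ) ((j v : N) : G) = (χ : G → ℂ) ((1 : N) : G)
      rw [e1, e2]
      refine Finset.sum_congr rfl fun θ _ => ?_
      by_cases hθ : a θ = 0
      · simp [hθ]
      · rw [hone θ hθ v]
    refine hχ ?_
    rw [hconst, classInner_smul_left, classInner_irr_ne isIrr_one (linIrr l).2
      (Ne.symm (linIrr_ne hl)), mul_zero]
  -- hence the quotient by `V` only loses `p`
  have hA : ∀ a : ℕ, (a = q ∨ a = r) → a.Prime → Deg G a → NA G p a → ¬ Deg (G ⧸ V) a → False := by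
    intro a _ hap hda hpa hd
    haveI := Fact.mk hap
    obtain ⟨A⟩ : Nonempty (Sylow a G) := inferInstance
    obtain ⟨hMn, hAc⟩ := pull hap V hd A
    haveI := hMn
    set M := (A : Subgroup G) ⊔ V with hM
    have hap' : a ≠ p := by
      rintro rfl
      obtain ⟨χ, hχ⟩ := hda
      exact hpa χ hχ hχ
    have hinf : (A : Subgroup G) ⊓ V = ⊥ :=
      Subgroup.disjoint_of_coprime_natCard (IsPGroup.coprime_card_of_ne a p hap' (A : Subgroup G) V
        A.isPGroup' (hPp.to_le hVN)) |>.eq_bot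
    by_cases hall : ∀ l : V →* ℂˣ, M ≤ inertia V ((linIrr l : IrrCharacter V) : V → ℂ)
    · -- the Sylow subgroup would be normal and abelian
      have hcentV : ∀ x ∈ (A : Subgroup G), ∀ v ∈ V, x * v = v * x := by
        intro x hx v hv
        have key : conjEquivN V x (⟨v, hv⟩ : V) = ⟨v, hv⟩ := by
          refine (CommGroup.forall_apply_eq_apply_iff V (M := ℂ)).1 fun φ => ?_
          have e1 := congrFun ((mem_inertia V).1 (hall φ (le_sup_left (a := (A : Subgroup G)) hx)))
            (⟨v, hv⟩ : V)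
          rw [conjN_eq_comp] at e1
          exact Units.ext e1
        have e2 := congrArg Subtype.val key
        rw [conjEquivN_apply] at e2
        exact mul_inv_eq_iff_eq_mul.1 e2
      have hle : (A : Subgroup G) ≤ M := le_sup_left
      have h1 := Sylow.normalizer_sup_eq_top (A.subtype hle)
      rw [Sylow.coe_subtype, Subgroup.subgroupOf_map_subtype, inf_eq_left.2 hle] at h1
      have hVnorm : V ≤ Subgroup.normalizer ((A : Subgroup G) : Set G) := by
        intro v hv
        rw [Subgroup.mem_normalizer_iff]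
        intro n
        constructor
        · intro hn
          rw [← hcentV n hn v hv, mul_inv_cancel_right]; exact hn
        · intro hn
          have e := hcentV _ hn v hv
          have e' : v * n = v * (v * n * v⁻¹) := by
            calc v * n = v * n * v⁻¹ * v := by group
              _ = _ := e
          rwa [← mul_left_cancel e'] at hn
      have h2 : Subgroup.normalizer ((A : Subgroup G) : Set G) = ⊤ := by
        rw [eq_top_iff, ← h1]
        exact sup_le le_rfl (sup_le Subgroup.le_normalizer hVnorm)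
      refine not_deg_of_normal hap A (Subgroup.normalizer_eq_top_iff.1 h2) (fun x hx y hy => ?_) hda
      have h3 : x * y * (y * x)⁻¹ ∈ (A : Subgroup G) ⊓ V :=
        ⟨Subgroup.mul_mem _ (Subgroup.mul_mem _ hx hy) (Subgroup.inv_mem _ (Subgroup.mul_mem _ hy hx)), hAc x hx y hy⟩
      rw [hinf, Subgroup.mem_bot, mul_inv_eq_one] at h3
      exact h3
    · push Not at hall
      obtain ⟨l, hl⟩ := hall
      have hl1 : l ≠ 1 := by
        rintro rfl
        exact hl fun g _ => (mem_inertia V).2 rfl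
      obtain ⟨χ, hχ⟩ := exists_over (G := G) (linIrr l)
      refine hpa χ (hoverp l hl1 χ hχ) (Classical.not_not.1 fun hna => hl ?_)
      have hrel : V.relIndex M = a ^ (Nat.card G).factorization a := by
        have h1 := Subgroup.relIndex_sup_right (A : Subgroup G) V
        rw [hM, h1]
        have h2 : V.relIndex (A : Subgroup G) = Nat.card A := by
          rw [← Subgroup.inf_relIndex_right, inf_comm, hinf, Subgroup.relIndex_bot_left]
        rw [h2, A.card_eq_multiplicity]
      exact le_of_normal_index hap M _ V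
        (le_inertia V (IsIrr.classFun (linIrr l).2)) le_sup_right hrel
        fun hd' => hna (hd'.trans (orbit_dvd hχ))
  have hPV : ⁅N, N⁆ ≤ V := by
    rcases h.quot V hVne with e | e | e
    · obtain ⟨-, hPc⟩ := pull h.hp V e P
      rw [Subgroup.commutator_le]
      intro x hx y hy
      have e' : ⁅x, y⁆ = x * y * (y * x)⁻¹ := by rw [commutatorElement_def]; group
      rw [e']
      exact hPc x hx y hy
    · exact (hA q (Or.inl rfl) h.hq h.dq h.npq e).elim
    · exact (hA r (Or.inr rfl) h.hr h.dr h.npr e).elim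
  have hVeq : V = ⁅N, N⁆ := le_antisymm hVD hPV
  have hcommV : ∀ y ∈ commutator N, (y : G) ∈ V := by
    intro y hy
    apply hPV
    rw [← Subgroup.map_subtype_commutator]
    exact Subgroup.mem_map_of_mem _ hy
  -- the stabilisers
  set ρV := dualRep V Hc with hρV
  set ρP := dualRep N Hc with hρP
  have hext : ∀ θ : IrrCharacter N, ∃ ψ : inertia N (θ : N → ℂ) → ℂ, IsIrrCharacter _ ψ ∧
      ∀ m : N, ψ ⟨m, le_inertia N (IsIrr.classFun θ.2) m.2⟩ = (θ : N → ℂ) m :=
    fun θ => ext_of_coprime N hcopN θ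
  have hθstab : ∀ a : ℕ, (a = q ∨ a = r) → ∀ θ : IrrCharacter N, charDegree (θ : N → ℂ) ≠ 1 →
      ¬ a ∣ (stabIn N Hc (θ : N → ℂ)).index ∧ NormalAb (stabIn N Hc (θ : N → ℂ)) a := by
    intro a ha θ hθ
    rcases ha with rfl | rfl
    · exact stab_sylow N Hc hc θ (hext θ) h.hq h.npq.symm ((hpdeg θ hθ).mul_left _)
    · exact stab_sylow N Hc hc θ (hext θ) h.hr h.npr.symm ((hpdeg θ hθ).mul_left _)
  -- a character over a linear character of `V` with the same stabiliser
  have hinvθ : ∀ l : V →* ℂˣ, l ≠ 1 → ∃ θ : IrrCharacter N, charDegree (θ : N → ℂ) ≠ 1 ∧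
      stabIn N Hc (θ : N → ℂ) = stabIn V Hc ((linIrr l : IrrCharacter V) : V → ℂ) := by
    intro l hl
    have hnl : ∀ θ : IrrCharacter N, OverL j (θ : N → ℂ) l → charDegree (θ : N → ℂ) ≠ 1 := by
      intro θ hθ h1
      refine hl (MonoidHom.ext fun v => Units.ext ?_)
      have e := hθ v
      rw [hlin1 θ h1 v, PIto.charDeg_cast θ, h1, Nat.cast_one, one_mul] at e
      simpa using e.symm
    have hle : ∀ θ : IrrCharacter N, OverL j (θ : N → ℂ) l →
        stabIn N Hc (θ : N → ℂ) ≤ stabIn V Hc ((linIrr l : IrrCharacter V) : V → ℂ) := by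
      intro θ hθ u hu
      rw [stabIn, Subgroup.mem_subgroupOf, mem_inertia] at hu ⊢
      funext v
      have e := congrFun hu (j v)
      rw [conjN_eq_comp] at e ⊢
      dsimp only at e ⊢
      have e' : conjEquivN N (u : G) (j v) = j (conjEquivN V (u : G) v) :=
        Subtype.ext (by simp [conjEquivN_apply, j])
      rw [e', hθ, hθ] at e
      exact mul_left_cancel₀ (IsIrr.one_ne_zero θ.2) e
    obtain ⟨θ₀, hθ₀⟩ : ∃ θ : IrrCharacter N, OverL j (θ : N → ℂ) l := by
      obtain ⟨χ, hχ⟩ := exists_over (G := G) (linIrr l)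
      obtain ⟨a, ha, hd⟩ := IsChar.exists_decomp_inner
        (IsChar.res (irr_isChar χ) N)
      have h1 : (fun v : V => (χ : G → ℂ) v) = ∑ θ : IrrCharacter N,
          (a θ : ℂ) • fun v : V => (θ : N → ℂ) (j v) := by
        funext v
        have := congrFun hd (j v)
        rw [sum_irr_apply] at this
        show (χ : G → ℂ) ((j v : N) : G) = _
        rw [this]
        simp
      have hχ' := hχ
      unfold Over at hχ'
      rw [h1, classInner_sum_left] at hχ'
      obtain ⟨θ, -, hθ⟩ := Finset.exists_ne_zero_of_sum_ne_zero hχ'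
      rw [classInner_smul_left, mul_ne_zero_iff] at hθ
      refine ⟨θ, ?_⟩
      have hcen : ∀ v : V, j v ∈ Subgroup.center N := fun v =>
        Subgroup.mem_center_iff.2 fun x => Subtype.ext (hVcent v v.2 x x.2)
      choose c hc0 hcs using fun v : V => IsIrr.scalar_of_center θ.2 (hcen v)
      have hv1 : ∀ v : V, (θ : N → ℂ) (j v) = c v * (θ : N → ℂ) 1 := fun v => by
        have := hcs v 1
        rwa [mul_one] at this
      have hc1 : c 1 = 1 := by
        have := hv1 1
        rw [map_one] at this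
        exact (mul_eq_right₀ (IsIrr.one_ne_zero θ.2)).1 this.symm
      let cH : V →* ℂˣ := MonoidHom.toHomUnits
        { toFun := c
          map_one' := hc1
          map_mul' := fun v w => mul_right_cancel₀ (IsIrr.one_ne_zero θ.2) (by
            rw [← hv1, map_mul, hcs v, hv1, mul_assoc]) }
      have hres : (fun v : V => (θ : N → ℂ) (j v)) = (θ : N → ℂ) 1 • fun v : V => (cH v : ℂ) := by
        funext v
        rw [hv1, Pi.smul_apply, smul_eq_mul, mul_comm]
        rfl
      have hcl : cH = l := by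
        by_contra hne
        refine hθ.2 ?_
        rw [hres, classInner_smul_left, classInner_irr_ne (isIrr_linear cH) (linIrr l).2
          (fun e => hne (MonoidHom.ext fun v => Units.ext (congrFun e v))), mul_zero]
      intro v
      rw [← hcl, hv1, mul_comm]
      rfl
    have hd0 := hnl θ₀ hθ₀
    -- any other one differs by a linear character
    have htwist : ∀ θ : IrrCharacter N, OverL j (θ : N → ℂ) l →
        ∃ μ : N →* ℂˣ, ∀ x, (θ : N → ℂ) x = (μ x : ℂ) * (θ₀ : N → ℂ) x := by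
      intro θ hθ
      set F : N → ℂ := (θ : N → ℂ) * fun x => conj ((θ₀ : N → ℂ) x) with hF
      have hFc : IsCharacter N F := IsChar.mul (irr_isChar θ) (IsChar.conj (irr_isChar θ₀))
      have hFV : ∀ v : V, F (j v) = F 1 := by
        intro v
        simp only [hF, Pi.mul_apply]
        rw [hθ v, hθ₀ v, map_mul]
        have hu : (l v : ℂ) * conj (l v : ℂ) = 1 := by
          have hn : ‖(l v : ℂ)‖ = 1 := Complex.norm_eq_one_of_pow_eq_one
            (by rw [← Units.val_pow_eq_pow_val, ← map_pow, pow_card_eq_one', map_one, Units.val_one])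
            Nat.card_pos.ne'
          rw [Complex.mul_conj', hn]
          norm_num
        calc (θ : N → ℂ) 1 * (l v : ℂ) * (conj ((θ₀ : N → ℂ) 1) * conj (l v : ℂ))
            = (θ : N → ℂ) 1 * conj ((θ₀ : N → ℂ) 1) * ((l v : ℂ) * conj (l v : ℂ)) := by ring
          _ = _ := by rw [hu, mul_one]
      obtain ⟨φ, hφ⟩ := IsChar.exists_constituent' hFc (by
        simp only [hF, Pi.mul_apply]
        exact mul_ne_zero (IsIrr.one_ne_zero θ.2) (by
          rw [Ne, map_eq_zero]; exact IsIrr.one_ne_zero θ₀.2))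
      have hφ1 : (φ : N → ℂ) 1 = 1 := by
        obtain ⟨ψ, hψ, hf⟩ := IsIrr.exists_factor_quotient φ.2 (commutator N) fun k hk => by
          have e : j ⟨(k : G), hcommV k hk⟩ = k := Subtype.ext rfl
          exact constituent_ker hFc φ.2 hφ (e ▸ hFV _)
        rw [← hf 1]
        exact IsIrr.one_of_comm (G := N ⧸ commutator N)
          (fun a b => Abelianization.commGroup (G := N) |>.mul_comm a b) hψ
      obtain ⟨μ, hμ⟩ := linearHom_of_isCharacter (irr_isChar φ) hφ1
      refine ⟨μ, fun x => ?_⟩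
      let φ' : IrrCharacter N := ⟨_, IsIrr.mul_linear θ₀.2 μ⟩
      have e : classInner F (φ : N → ℂ) = classInner (θ : N → ℂ) (φ' : N → ℂ) := by
        simp only [classInner, hF, hμ, Pi.mul_apply, map_mul, φ']
        congr 1
        exact Finset.sum_congr rfl fun g _ => by ring
      by_contra hne
      exact hφ (e ▸ classInner_irr_ne θ.2 φ'.2 fun e' => hne (congrFun e' x))
    -- averaging
    set T := stabIn V Hc ((linIrr l : IrrCharacter V) : V → ℂ) with hT
    haveI := Fintype.ofFinite T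
    let act : T → (N →* ℂˣ) → (N →* ℂˣ) := fun h μ =>
      μ.comp (conjEquivN N ((h : Hc) : G)).toMonoidHom
    have hmove : ∀ h : T, ∀ θ : IrrCharacter N, OverL j (θ : N → ℂ) l →
        OverL j (fun x => (θ : N → ℂ) (conjEquivN N ((h : Hc) : G) x)) l := by
      intro h θ hθ v
      have hh : ((h : Hc) : G) ∈ inertia V ((linIrr l : IrrCharacter V) : V → ℂ) :=
        Subgroup.mem_subgroupOf.1 h.2
      have e' : conjEquivN N ((h : Hc) : G) (j v) = j (conjEquivN V ((h : Hc) : G) v) :=
        Subtype.ext (by simp [conjEquivN_apply, j])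
      have e2 := congrFun ((mem_inertia V).1 hh) v
      rw [conjN_eq_comp] at e2
      show (θ : N → ℂ) (conjEquivN N _ (j v)) = (θ : N → ℂ) (conjEquivN N _ 1) * _
      rw [e', hθ, map_one]
      exact congrArg _ e2
    have hex : ∀ h : T, ∃ μ : N →* ℂˣ, ∀ x,
        (θ₀ : N → ℂ) (conjEquivN N ((h : Hc) : G) x) = (μ x : ℂ) * (θ₀ : N → ℂ) x := fun h =>
      htwist ⟨_, IsIrr.comp_mulEquiv (conjEquivN N ((h : Hc) : G)) θ₀.2⟩ (hmove h θ₀ hθ₀)
    choose c hc' using hex
    let Rel : (N →* ℂˣ) → (N →* ℂˣ) → Prop := fun μ ν =>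
      ∀ x, (μ x : ℂ) * (θ₀ : N → ℂ) x = (ν x : ℂ) * (θ₀ : N → ℂ) x
    have hRmul : ∀ μ ν μ' ν', Rel μ ν → Rel μ' ν' → Rel (μ * μ') (ν * ν') := by
      intro μ ν μ' ν' h1 h2 x
      simp only [MonoidHom.mul_apply, Units.val_mul]
      calc (μ x : ℂ) * (μ' x : ℂ) * (θ₀ : N → ℂ) x = (μ x : ℂ) * ((μ' x : ℂ) * (θ₀ : N → ℂ) x) := by ring
        _ = (ν' x : ℂ) * ((μ x : ℂ) * (θ₀ : N → ℂ) x) := by rw [h2 x]; ring
        _ = _ := by rw [h1 x]; ring
    have hRprod : ∀ (f g : T → (N →* ℂˣ)), (∀ t, Rel (f t) (g t)) → Rel (∏ t, f t) (∏ t, g t) := by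
      intro f g hfg
      refine Finset.prod_induction_nonempty (fun t => (f t, g t)) (fun pr => Rel pr.1 pr.2)
        (fun a b ha hb => hRmul _ _ _ _ ha hb) Finset.univ_nonempty (fun t _ => hfg t) |> fun e => ?_
      simpa [Prod.fst_prod, Prod.snd_prod] using e
    have hRpow : ∀ μ ν, Rel μ ν → ∀ k : ℕ, Rel (μ ^ k) (ν ^ k) := by
      intro μ ν h1 k
      induction k with
      | zero => intro x; simp
      | succ k ih =>
        intro x
        have := hRmul _ _ _ _ ih h1 x
        simpa [MonoidHom.pow_apply, MonoidHom.mul_apply, pow_succ] using this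
    have hrel : ∀ g h : T, Rel (c (g * h)) (c h * act h (c g)) := by
      intro g h x
      rw [← hc' (g * h) x]
      have e : conjEquivN N (((g * h : T) : Hc) : G) x =
          conjEquivN N ((g : Hc) : G) (conjEquivN N ((h : Hc) : G) x) :=
        Subtype.ext (by simp [conjEquivN_apply, mul_assoc])
      rw [e, hc' g, hc' h, MonoidHom.mul_apply, Units.val_mul]
      show (c g (conjEquivN N _ x) : ℂ) * _ = _ * (c g (conjEquivN N _ x) : ℂ) * _
      ring
    set M := ∏ g : T, c g with hM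
    have hMrel : ∀ h : T, Rel M ((c h) ^ Nat.card T * act h M) := by
      intro h
      have e := hRprod _ _ fun g => hrel g h
      rw [Fintype.prod_equiv (Equiv.mulRight h) (fun g => c (g * h)) c (fun g => rfl),
        Finset.prod_mul_distrib, Finset.prod_const, Finset.card_univ, ← Nat.card_eq_fintype_card] at e
      convert e using 2
      exact MonoidHom.ext fun x => by simp [act, hM]
    obtain ⟨k, hk⟩ : ∃ k : ℕ, ∀ μ : N →* ℂˣ, (μ ^ Nat.card T) ^ k = μ := by
      have hcop : Nat.Coprime (Nat.card T) (Nat.card N) := by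
        refine (hcopN.coprime_dvd_right ?_).symm
        rw [hc.symm.index_eq_card]
        exact Subgroup.card_subgroup_dvd_card T
      rcases Nat.lt_or_ge 1 (Nat.card N) with hN1 | hN1
      · obtain ⟨k, hk⟩ := Nat.exists_mul_mod_eq_one_of_coprime hcop hN1
        refine ⟨k, fun μ => MonoidHom.ext fun x => ?_⟩
        rw [MonoidHom.pow_apply, MonoidHom.pow_apply, ← pow_mul,
          pow_eq_pow_mod _ (by rw [← map_pow, pow_card_eq_one', map_one] : μ x ^ Nat.card N = 1),
          hk.2, pow_one]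
      · refine ⟨0, fun μ => MonoidHom.ext fun x => ?_⟩
        have hx : x = 1 := by
          haveI : Subsingleton N := (Nat.card_eq_one_iff_unique.1 (le_antisymm hN1 Nat.card_pos)).1
          exact Subsingleton.elim _ _
        rw [hx, map_one, map_one]
    set m := M ^ k with hm
    let θ₁ : IrrCharacter N := ⟨_, IsIrr.mul_linear θ₀.2 m⟩
    have hθ₁ : OverL j (θ₁ : N → ℂ) l := by
      intro v
      show (m (j v) : ℂ) * _ = (m 1 : ℂ) * (θ₀ : N → ℂ) 1 * _
      rw [Abelianization.commutator_subset_ker m (hjcomm v), map_one, hθ₀ v]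
      ring
    refine ⟨θ₁, hnl θ₁ hθ₁, le_antisymm (hle θ₁ hθ₁) fun u hu => ?_⟩
    rw [stabIn, Subgroup.mem_subgroupOf, mem_inertia, conjN_eq_comp]
    funext x
    have e := hRpow _ _ (hMrel ⟨u, hu⟩) k x
    simp only [MonoidHom.pow_apply, MonoidHom.mul_apply, mul_pow] at e
    have hkx := DFunLike.congr_fun (hk (c ⟨u, hu⟩)) x
    simp only [MonoidHom.pow_apply] at hkx
    rw [hkx] at e
    show (m (conjEquivN N (u : G) x) : ℂ) * (θ₀ : N → ℂ) (conjEquivN N (u : G) x) =
      (m x : ℂ) * (θ₀ : N → ℂ) x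
    rw [hc' ⟨u, hu⟩ x, hm]
    simp only [MonoidHom.pow_apply]
    rw [e]
    simp only [MonoidHom.mul_apply, MonoidHom.pow_apply, Units.val_mul, act, MonoidHom.comp_apply,
      MulEquiv.coe_toMonoidHom]
    ring
  have hVstab : ∀ a : ℕ, (a = q ∨ a = r) → ∀ l : V →* ℂˣ, l ≠ 1 →
      ¬ a ∣ (stabIn V Hc ((linIrr l : IrrCharacter V) : V → ℂ)).index ∧
        NormalAb (stabIn V Hc ((linIrr l : IrrCharacter V) : V → ℂ)) a := by
    intro a ha l hl
    obtain ⟨θ, hθ, e⟩ := hinvθ l hl
    rw [← e]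
    exact hθstab a ha θ hθ
  haveI := dual_nontrivial V hVne hab
  haveI : Finite (V →* ℂˣ) := dual_finite
  haveI : Finite (N →* ℂˣ) := dual_finite
  have hfixV : ∀ a : ℕ, a.Prime → (a = q ∨ a = r) → ∀ w : Additive (V →* ℂˣ), w ≠ 0 →
      (∃ S : Sylow a Hc, w ∈ fixS ρV (S : Subgroup Hc)) ∧
      ∀ S S' : Sylow a Hc, w ∈ fixS ρV (S : Subgroup Hc) → w ∈ fixS ρV (S' : Subgroup Hc) → S = S' := by
    intro a hap ha w hw
    haveI := Fact.mk hap
    obtain ⟨l, rfl⟩ := Additive.ofMul.surjective w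
    have hl : l ≠ 1 := fun e => hw (by rw [e]; rfl)
    obtain ⟨h1, h2⟩ := hVstab a ha l hl
    obtain ⟨⟨S, hS⟩, huq, -⟩ := unique_sylow h1 h2
    exact ⟨⟨S, (fixS_dualRep V Hc l _).2 hS⟩, fun S S' hS hS' =>
      huq S S' ((fixS_dualRep V Hc l _).1 hS) ((fixS_dualRep V Hc l _).1 hS')⟩
  have hgen : ∀ g : G, ∃ u : Hc, ∀ n ∈ V, g * n * g⁻¹ = u * n * (u : G)⁻¹ := by
    intro g
    obtain ⟨x, hx, u, hu, rfl⟩ := exists_factor_mem hc g
    refine ⟨⟨u, hu⟩, fun n hn => ?_⟩
    have h1 : u * n * u⁻¹ ∈ V := hVn.conj_mem n hn u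
    calc x * u * n * (x * u)⁻¹ = x * (u * n * u⁻¹) * x⁻¹ := by group
      _ = u * n * u⁻¹ := by rw [hVcent _ h1 x hx, mul_inv_cancel_right]
  have hirrV : Irred ρV := dual_irred V Hc hab hmin hgen
  let π : G →* Hc := (hc.symm.QuotientMulEquiv.toMonoidHom).comp (QuotientGroup.mk' N)
  have hπ : Function.Surjective π :=
    hc.symm.QuotientMulEquiv.surjective.comp (QuotientGroup.mk'_surjective N)
  -- the Sylow subgroups of the complement are abelian
  obtain ⟨l₀, hl₀⟩ : ∃ l : V →* ℂˣ, l ≠ 1 := by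
    obtain ⟨w, hw⟩ := exists_ne (0 : Additive (V →* ℂˣ))
    exact ⟨Additive.toMul w, fun e => hw (Additive.toMul.injective e)⟩
  have hSab : ∀ a : ℕ, a.Prime → (a = q ∨ a = r) → ∀ S : Sylow a Hc,
      ∀ x ∈ (S : Subgroup Hc), ∀ y ∈ (S : Subgroup Hc), x * y = y * x := by
    intro a hap ha
    haveI := Fact.mk hap
    exact (unique_sylow (hVstab a ha l₀ hl₀).1 (hVstab a ha l₀ hl₀).2).2.2
  -- a normal Sylow subgroup of the complement fixes `V` and moves `N`
  have hnormal : ∀ a : ℕ, a.Prime → (a = q ∨ a = r) → Deg G a → ∀ S : Sylow a Hc,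
      (S : Subgroup Hc).Normal →
      (∀ s ∈ (S : Subgroup Hc), ∀ v ∈ V, (s : G) * v = v * s) ∧
      ¬ (∀ s ∈ (S : Subgroup Hc), ∀ x ∈ N, (s : G) * x = x * s) ∧
      ¬ (∀ μ : N →* ℂˣ, (S : Subgroup Hc) ≤ stabIn N Hc ((linIrr μ : IrrCharacter N) : N → ℂ)) ∧
      ∀ (θ : N → ℂ), ¬ a ∣ (stabIn N Hc θ).index → (S : Subgroup Hc) ≤ stabIn N Hc θ := by
    intro a hap ha hda S hSn
    haveI := Fact.mk hap
    haveI := hSn
    have hfix : ∀ (X : Subgroup Hc), ¬ a ∣ X.index → (S : Subgroup Hc) ≤ X := fun X hX =>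
      le_of_normal_index hap _ _ ⊥ bot_le bot_le
        (by rw [Subgroup.relIndex_bot_left]; exact S.card_eq_multiplicity) hX
    have hV1 : ∀ s ∈ (S : Subgroup Hc), ∀ v ∈ V, (s : G) * v = v * s := by
      intro s hs v hv
      have key : conjEquivN V (s : G) (⟨v, hv⟩ : V) = ⟨v, hv⟩ := by
        refine (CommGroup.forall_apply_eq_apply_iff V (M := ℂ)).1 fun φ => ?_
        by_cases hφ : φ = 1
        · subst hφ; rfl
        have hm := Subgroup.mem_subgroupOf.1 (hfix _ (hVstab a ha φ hφ).1 hs)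
        have e1 := congrFun ((mem_inertia V).1 hm) (⟨v, hv⟩ : V)
        rw [conjN_eq_comp] at e1
        exact Units.ext e1
      have e2 := congrArg Subtype.val key
      rw [conjEquivN_apply] at e2
      exact mul_inv_eq_iff_eq_mul.1 e2
    have hap' : a ≠ p := by
      rintro rfl
      rcases ha with e | e
      · exact h.hpq e
      · exact h.hpr e
    have hcent : ¬ (∀ s ∈ (S : Subgroup Hc), ∀ x ∈ N, (s : G) * x = x * s) := by
      intro hcent
      set S' := (S : Subgroup Hc).map Hc.subtype with hS'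
      obtain ⟨A, hA⟩ := (S.isPGroup'.map Hc.subtype).exists_le_sylow
      have hcd : Nat.card S' = Nat.card A := by
        rw [hS', Subgroup.card_map_of_injective Hc.subtype_injective, A.card_eq_multiplicity,
          S.card_eq_multiplicity, ← hc.card_mul_card,
          Nat.factorization_mul Nat.card_pos.ne' Nat.card_pos.ne', Finsupp.add_apply,
          Nat.factorization_eq_zero_of_not_dvd (n := Nat.card N) (fun hd => ?_), zero_add]
        obtain ⟨k, hk⟩ := IsPGroup.iff_card.1 hPp
        exact hap' ((Nat.prime_dvd_prime_iff_eq hap h.hp).1 (hap.dvd_of_dvd_pow (hk ▸ hd)))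
      have hAe : S' = A := Subgroup.eq_of_le_of_card_ge hA hcd.ge
      refine not_deg_of_normal hap A ?_ ?_ hda
      · rw [← hAe]
        refine ⟨fun y hy g => ?_⟩
        obtain ⟨s, hs, rfl⟩ := hy
        obtain ⟨x, hx, u, hu, rfl⟩ := exists_factor_mem hc g
        refine ⟨⟨u, hu⟩ * s * ⟨u, hu⟩⁻¹, hSn.conj_mem s hs _, ?_⟩
        have h1 := hcent _ (hSn.conj_mem s hs (⟨u, hu⟩ : Hc)) x hx
        simp only [Subgroup.coe_subtype, Subgroup.coe_mul, Subgroup.coe_inv] at h1 ⊢
        calc u * (s : G) * u⁻¹ = (x * (u * (s : G) * u⁻¹)) * x⁻¹ := by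
              rw [← h1, mul_inv_cancel_right]
          _ = _ := by group
      · rw [← hAe]
        rintro _ ⟨s, hs, rfl⟩ _ ⟨t, ht, rfl⟩
        rw [← map_mul, hSab a hap ha S s hs t ht, map_mul]
    refine ⟨hV1, hcent, fun hall => hcent fun s hs x hx => ?_, fun θ hθ => hfix _ hθ⟩
    -- trivial on both factors
    set S' := (S : Subgroup Hc).map Hc.subtype
    have hcop : (Nat.card S').Coprime (Nat.card N) :=
      IsPGroup.coprime_card_of_ne a p hap' S' N (S.isPGroup'.map _) hPp
    have h1 : ⁅N, S'⁆ ≤ V := by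
      rw [Subgroup.commutator_le]
      rintro y hy _ ⟨t, ht, rfl⟩
      have hm : ⁅y, (t : G)⁆ ∈ N := by
        rw [commutatorElement_def]
        simpa [mul_assoc] using mul_mem hy (hPn.conj_mem _ (inv_mem hy) (t : G))
      have e : Abelianization.of (⟨⁅y, (t : G)⁆, hm⟩ : N) = 1 := by
        refine (CommGroup.forall_apply_eq_apply_iff (Abelianization N) (M := ℂ)).1 fun φ => ?_
        rw [map_one]
        set μ : N →* ℂˣ := φ.comp Abelianization.of
        have e1 := congrFun ((mem_inertia N).1 (Subgroup.mem_subgroupOf.1 (hall μ ht)))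
          (⟨y, hy⟩⁻¹ : N)
        rw [conjN_eq_comp] at e1
        have e2 : μ (conjEquivN N (t : G) ⟨y, hy⟩⁻¹) = μ ⟨y, hy⟩⁻¹ := Units.ext e1
        have e3 : (⟨⁅y, (t : G)⁆, hm⟩ : N) = ⟨y, hy⟩ * conjEquivN N (t : G) ⟨y, hy⟩⁻¹ :=
          Subtype.ext (by simp [conjEquivN_apply, commutatorElement_def, mul_assoc])
        show μ _ = 1
        rw [e3, map_mul, e2, map_inv, mul_inv_cancel]
      exact hcommV _ ((QuotientGroup.eq_one_iff (N := commutator N) _).1 e)
    have h2 : ⁅V, S'⁆ = ⊥ := by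
      rw [Subgroup.commutator_eq_bot_iff_le_centralizer]
      intro v hv
      rw [Subgroup.mem_centralizer_iff]
      rintro _ ⟨t, ht, rfl⟩
      exact hV1 t ht v hv
    have h3 := Grp.le_centralizer_of_series S' N V
      (by rw [Subgroup.normalizer_eq_top]; exact le_top) hcop (Or.inl inferInstance) h1 h2
    exact (Subgroup.mem_centralizer_iff.1 (h3 (Subgroup.mem_map_of_mem _ hs)) x hx).symm
  -- linear characters of `N`
  have hμstab : ∀ a b : ℕ, a.Prime → NA G a b → ∀ μ : N →* ℂˣ,
      b ∣ (stabIn N Hc ((linIrr μ : IrrCharacter N) : N → ℂ)).index →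
      ¬ a ∣ (stabIn N Hc ((linIrr μ : IrrCharacter N) : N → ℂ)).index ∧
        NormalAb (stabIn N Hc ((linIrr μ : IrrCharacter N) : N → ℂ)) a :=
    fun a b hap hab' μ hb => stab_sylow N Hc hc (linIrr μ) (hext _) hap hab' (hb.mul_right _)
  -- one normal Sylow subgroup
  have hone : ∀ a b : ℕ, a.Prime → b.Prime → (a = q ∨ a = r) → (b = q ∨ b = r) → Deg G a → Deg G b →
      NA G a b → ∀ Q : Sylow a Hc, (Q : Subgroup Hc).Normal → False := by
    intro a b hap hbp ha hb hda hdb hnab' Q hQn
    haveI := Fact.mk hap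
    haveI := Fact.mk hbp
    obtain ⟨hQV, hQN, hQall, hQfix⟩ := hnormal a hap ha hda Q hQn
    -- the other is not normal
    have hRnn : ∀ R : Sylow b Hc, ¬ (R : Subgroup Hc).Normal := by
      intro R hRn
      obtain ⟨-, -, hRall, hRfix⟩ := hnormal b hbp hb hdb R hRn
      push Not at hQall hRall
      obtain ⟨μ, hμ⟩ := hQall
      obtain ⟨ν, hν⟩ := hRall
      have hex : ∃ κ : N →* ℂˣ, Additive.ofMul κ ∉ fixS ρP (Q : Subgroup Hc) ∧
          Additive.ofMul κ ∉ fixS ρP (R : Subgroup Hc) := by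
        rw [← fixS_dualRep] at hμ hν
        by_cases h1 : Additive.ofMul μ ∈ fixS ρP (R : Subgroup Hc)
        · by_cases h2 : Additive.ofMul ν ∈ fixS ρP (Q : Subgroup Hc)
          · refine ⟨μ * ν, fun h3 => hμ ?_, fun h3 => hν ?_⟩
            · have e : Additive.ofMul μ = Additive.ofMul (μ * ν) + -Additive.ofMul ν :=
                Additive.toMul.injective (MonoidHom.ext fun x => by simp)
              exact e ▸ AddSubgroup.add_mem _ h3 (AddSubgroup.neg_mem _ h2)
            · have e : Additive.ofMul ν = Additive.ofMul (μ * ν) + -Additive.ofMul μ :=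
                Additive.toMul.injective (MonoidHom.ext fun x => by simp)
              exact e ▸ AddSubgroup.add_mem _ h3 (AddSubgroup.neg_mem _ h1)
          · exact ⟨ν, h2, hν⟩
        · exact ⟨μ, hμ, h1⟩
      obtain ⟨κ, hκ1, hκ2⟩ := hex
      have ha' : a ∣ (stabIn N Hc ((linIrr κ : IrrCharacter N) : N → ℂ)).index :=
        Classical.not_not.1 fun hd => hκ1 ((fixS_dualRep N Hc κ _).2 (hQfix _ hd))
      exact hκ2 ((fixS_dualRep N Hc κ _).2 (hRfix _ (hμstab b a hbp hnab'.symm κ ha').1))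
    set Q' := (Q : Subgroup Hc).map Hc.subtype with hQ'
    set K₀ := N ⊓ Subgroup.centralizer (Q' : Set G) with hK₀
    have hap' : a ≠ p := by
      rintro rfl
      rcases ha with e | e
      · exact h.hpq e
      · exact h.hpr e
    have hcop : (Nat.card Q').Coprime (Nat.card N) :=
      IsPGroup.coprime_card_of_ne a p hap' Q' N (Q.isPGroup'.map _) hPp
    have hQnorm : Q' ≤ Subgroup.normalizer (N : Set G) := by
      rw [Subgroup.normalizer_eq_top]; exact le_top
    -- the characters killing the fixed points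
    let W₂ : AddSubgroup (Additive (N →* ℂˣ)) :=
      { carrier := {w | ∀ x : N, (x : G) ∈ K₀ → Additive.toMul w x = 1}
        zero_mem' := fun x _ => rfl
        add_mem' := fun {w w'} hw hw' x hx => by
          show Additive.toMul w x * Additive.toMul w' x = 1
          rw [hw x hx, hw' x hx, one_mul]
        neg_mem' := fun {w} hw x hx => by
          show (Additive.toMul w x)⁻¹ = 1
          rw [hw x hx, inv_one] }
    have hW₂inv : ∀ u : Hc, ∀ w ∈ W₂, ρP u w ∈ W₂ := by
      intro u w hw x hx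
      obtain ⟨l, rfl⟩ := Additive.ofMul.surjective w
      rw [hρP, dualRep_apply]
      refine hw _ ⟨(conjEquivN N ((u : G)⁻¹) x).2, Subgroup.mem_centralizer_iff.2 ?_⟩
      rintro _ ⟨s, hs, rfl⟩
      have hs' := Subgroup.mem_centralizer_iff.1 hx.2 _
        (Subgroup.mem_map_of_mem Hc.subtype (hQn.conj_mem s hs u))
      simp only [Subgroup.coe_subtype, Subgroup.coe_mul, Subgroup.coe_inv, conjEquivN_apply,
        inv_inv] at hs' ⊢
      calc (s : G) * ((u : G)⁻¹ * x * u) = (u : G)⁻¹ * (((u : G) * s * (u : G)⁻¹) * x) * u := by group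
        _ = _ := by rw [hs']; group
    have hW₂moved : ∀ μ : N →* ℂˣ, Additive.ofMul μ ∈ W₂ → μ ≠ 1 →
        a ∣ (stabIn N Hc ((linIrr μ : IrrCharacter N) : N → ℂ)).index := by
      intro μ hμ hμ1
      by_contra hd
      have hle := hQfix _ hd
      refine hμ1 (MonoidHom.ext fun x => ?_)
      have htop : N ≤ μ.ker.map N.subtype := by
        conv_lhs => rw [← Grp.commutator_sup_fixed Q' N hQnorm hcop (Or.inl inferInstance)]
        refine sup_le ?_ fun y hy => ⟨⟨y, hy.1⟩, hμ ⟨y, hy.1⟩ hy, rfl⟩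
        rw [Subgroup.commutator_le]
        rintro y hy _ ⟨t, ht, rfl⟩
        have e1 := congrFun ((mem_inertia N).1 (Subgroup.mem_subgroupOf.1 (hle ht))) (⟨y, hy⟩⁻¹ : N)
        rw [conjN_eq_comp] at e1
        have e2 : μ (conjEquivN N (t : G) ⟨y, hy⟩⁻¹) = μ ⟨y, hy⟩⁻¹ := Units.ext e1
        refine ⟨⟨y, hy⟩ * conjEquivN N (t : G) ⟨y, hy⟩⁻¹, ?_, by
          simp [conjEquivN_apply, commutatorElement_def, mul_assoc]⟩
        rw [SetLike.mem_coe, MonoidHom.mem_ker, map_mul, e2, map_inv, mul_inv_cancel]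
      obtain ⟨y, hy, e⟩ := htop x.2
      obtain rfl : y = x := Subtype.ext e
      exact hy
    have hfix₂ : ∀ w ∈ W₂, w ≠ 0 → (∃ S : Sylow b Hc, w ∈ fixS ρP (S : Subgroup Hc)) ∧
        ∀ S S' : Sylow b Hc, w ∈ fixS ρP (S : Subgroup Hc) → w ∈ fixS ρP (S' : Subgroup Hc) →
          S = S' := by
      intro w hw hw0
      obtain ⟨μ, rfl⟩ := Additive.ofMul.surjective w
      obtain ⟨h1, h2⟩ := hμstab b a hbp hnab'.symm μ
        (hW₂moved μ hw fun e => hw0 (by rw [e]; rfl))
      obtain ⟨⟨S, hS⟩, huq, -⟩ := unique_sylow h1 h2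
      exact ⟨⟨S, (fixS_dualRep N Hc μ _).2 hS⟩, fun S S' hS hS' =>
        huq S S' ((fixS_dualRep N Hc μ _).1 hS) ((fixS_dualRep N Hc μ _).1 hS')⟩
    obtain ⟨R⟩ : Nonempty (Sylow b Hc) := inferInstance
    have e1 := partition_count ρV ⊤ (fun _ _ _ => trivial)
      (fun w _ hw => hfixV b hbp hb w hw) R
    have e2 := partition_count ρP W₂ hW₂inv hfix₂ R
    -- sizes
    set Kb := (K₀.subgroupOf N).map (Abelianization.of : N →* Abelianization N) with hKb
    set K := Kb.comap (Abelianization.of : N →* Abelianization N) with hK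
    have hsurj : Function.Surjective (Abelianization.of : N →* Abelianization N) :=
      QuotientGroup.mk'_surjective _
    have hVcard : Nat.card V = Nat.card (commutator N) := by
      rw [hVeq, ← Subgroup.map_subtype_commutator,
        Subgroup.card_map_of_injective N.subtype_injective]
    have hKcard : Nat.card K = Nat.card Kb * Nat.card V := by
      refine Nat.eq_of_mul_eq_mul_right (m := Kb.index) (Nat.pos_of_ne_zero
        Subgroup.index_ne_zero_of_finite) ?_
      conv_lhs => rw [← Subgroup.index_comap_of_surjective Kb hsurj, ← hK, Subgroup.card_mul_index]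
      rw [mul_right_comm, Subgroup.card_mul_index, hVcard,
        ← Subgroup.index_mul_card (commutator N)]
      congr 1
    have hW₂card : Nat.card W₂ * Nat.card Kb = Nat.card (Abelianization N) := by
      have e : Nat.card W₂ = Nat.card (MonoidHom.domRestrictHom Kb ℂˣ).ker := by
        refine Nat.card_congr ?_
        refine Equiv.subtypeEquiv (Additive.toMul.trans Abelianization.lift) fun w => ?_
        rw [MonoidHom.mem_ker]
        constructor
        · intro hw
          refine MonoidHom.ext ?_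
          rintro ⟨_, x, hx, rfl⟩
          exact hw x hx
        · intro hw x hx
          exact DFunLike.congr_fun hw ⟨_, x, hx, rfl⟩
      rw [e, CommGroup.card_domRestrictHom_ker, ← Subgroup.index_eq_card, Subgroup.index_mul_card]
    -- an element outside `K` has small centraliser
    have hKK : ∀ x : N, x ∈ K ↔ ∃ y : N, (y : G) ∈ K₀ ∧ y⁻¹ * x ∈ commutator N := by
      intro x
      constructor
      · rintro ⟨y, hy, e⟩
        exact ⟨y, hy, (QuotientGroup.eq (s := commutator N)).1 e⟩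
      · rintro ⟨y, hy, e⟩
        exact ⟨y, hy, (QuotientGroup.eq (s := commutator N)).2 e⟩
    obtain ⟨u₀, hu₀, s₀, hs₀, hd⟩ : ∃ u, ∃ hu : u ∈ N, ∃ s ∈ (Q : Subgroup Hc),
        ∀ hm : ⁅u, (s : G)⁆ ∈ N, (⟨⁅u, (s : G)⁆, hm⟩ : N) ∉ K := by
      by_contra hno
      push Not at hno
      refine hQN fun s hs x hx => ?_
      have hsup := Grp.commutator_sup_fixed Q' N hQnorm hcop (Or.inl inferInstance)
      have hall : N ≤ K.map N.subtype := by
        conv_lhs => rw [← hsup]
        refine sup_le ?_ fun y hy => ⟨⟨y, hy.1⟩, (hKK _).2 ⟨⟨y, hy.1⟩, hy, by simp⟩, rfl⟩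
        rw [Subgroup.commutator_le]
        rintro y hy _ ⟨t, ht, rfl⟩
        obtain ⟨hm, hmK⟩ := hno y hy t ht
        exact ⟨_, hmK, rfl⟩
      obtain ⟨z, hz, rfl⟩ := hall hx
      obtain ⟨y, hy, hyz⟩ := (hKK z).1 hz
      have h1 : Commute (s : G) (y : G) :=
        Subgroup.mem_centralizer_iff.1 hy.2 _ (Subgroup.mem_map_of_mem Hc.subtype hs)
      have h2 : Commute (s : G) ((y⁻¹ * z : N) : G) := hQV s hs _ (hcommV _ hyz)
      have h3 := h1.mul_right h2
      rwa [Subgroup.coe_mul, Subgroup.coe_inv, mul_inv_cancel_left] at h3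
    have hm₀ : ⁅u₀, (s₀ : G)⁆ ∈ N := by
      rw [commutatorElement_def]
      simpa [mul_assoc] using mul_mem hu₀ (hPn.conj_mem _ (inv_mem hu₀) (s₀ : G))
    set d : N := ⟨⁅u₀, (s₀ : G)⁆, hm₀⟩ with hddef
    have hdK : d ∉ K := hd hm₀
    have hzero : ∀ θ : IrrCharacter N, charDegree (θ : N → ℂ) ≠ 1 → (θ : N → ℂ) d = 0 := by
      intro θ hθ
      by_contra h0
      refine hdK ?_
      have hfixed : ∀ θ' : IrrCharacter N, charDegree (θ' : N → ℂ) ≠ 1 → ∀ s ∈ (Q : Subgroup Hc),
          (θ' : N → ℂ) (conjEquivN N (s : G) d) = (θ' : N → ℂ) d := by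
        intro θ' h' s hs
        have := congrFun ((mem_inertia N).1
          (Subgroup.mem_subgroupOf.1 (hQfix _ (hθstab a ha θ' h').1 hs))) d
        rwa [conjN_eq_comp] at this
      have hcl : ∀ s ∈ Q', s * (d : G) * s⁻¹ * (d : G)⁻¹ ∈ V := by
        rintro _ ⟨s, hs, rfl⟩
        have e : Abelianization.of (conjEquivN N (s : G) d * d⁻¹) = 1 := by
          refine (CommGroup.forall_apply_eq_apply_iff (Abelianization N) (M := ℂ)).1 fun φ => ?_
          set μ : N →* ℂˣ := φ.comp Abelianization.of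
          let θμ : IrrCharacter N := ⟨_, IsIrr.mul_linear θ.2 μ⟩
          have h1 := hfixed θμ (by rw [show charDegree (θμ : N → ℂ) = charDegree (θ : N → ℂ) from
            char_mul_linear_deg μ _]; exact hθ) s hs
          have h2 := hfixed θ hθ s hs
          change (μ (conjEquivN N (s : G) d) : ℂ) * (θ : N → ℂ) (conjEquivN N (s : G) d) =
            (μ d : ℂ) * (θ : N → ℂ) d at h1
          rw [h2] at h1
          have h3 : μ (conjEquivN N (s : G) d) = μ d := Units.ext (mul_right_cancel₀ h0 h1)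
          rw [map_one]
          show μ (conjEquivN N (s : G) d * d⁻¹) = 1
          rw [map_mul, h3, map_inv, mul_inv_cancel]
        have := hcommV _ ((QuotientGroup.eq_one_iff (N := commutator N) _).1 e)
        simpa [conjEquivN_apply] using this
      obtain ⟨c, hcK, hcV⟩ := Grp.exists_fixed_rep Q' N V hQnorm
        (Grp.inf_eq_bot_of_coprime hcop) (hcop.coprime_dvd_right (Subgroup.card_dvd_of_le hVN))
        (Or.inl inferInstance) hVN (by rw [Subgroup.normalizer_eq_top]; exact le_top)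
        (by rw [Subgroup.normalizer_eq_top]; exact le_top) d.2 hcl
      refine (hKK d).2 ⟨⟨c, hcK.1⟩, hcK, ?_⟩
      have h1 : ((⟨c, hcK.1⟩⁻¹ * d : N) : G) ∈ V := by
        simpa [mul_inv_rev] using inv_mem hcV
      exact (show (⟨c, hcK.1⟩⁻¹ * d : N) = j ⟨_, h1⟩ from Subtype.ext rfl) ▸ hjcomm _
    have hcent : Nat.card (Subgroup.centralizer ({d} : Set N)) = Nat.card (Abelianization N) := by
      have h1 := sum_irr_mul_conj d d
      rw [if_pos (IsConj.refl d)] at h1
      haveI := Fintype.ofFinite (N →* ℂˣ)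
      have hinj : Function.Injective fun μ : N →* ℂˣ => (linIrr μ : IrrCharacter N) := fun μ ν e =>
        MonoidHom.ext fun n => Units.ext (congrFun (congrArg Subtype.val e) n)
      rw [← Finset.sum_subset (s₁ := Finset.univ.image fun μ : N →* ℂˣ => (linIrr μ : IrrCharacter N))
        (Finset.subset_univ _) (fun θ _ hθ => by
          rw [hzero θ (fun h1 => hθ ?_), zero_mul]
          obtain ⟨μ, hμ⟩ := linearHom_of_isCharacter (irr_isChar θ) (by
            rw [PIto.charDeg_cast θ, h1, Nat.cast_one])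
          exact Finset.mem_image.2 ⟨μ, Finset.mem_univ _, Subtype.ext hμ.symm⟩),
        Finset.sum_image (fun μ _ ν _ e => hinj e)] at h1
      have hterm : ∀ μ : N →* ℂˣ, ((linIrr μ : IrrCharacter N) : N → ℂ) d *
          conj (((linIrr μ : IrrCharacter N) : N → ℂ) d) = 1 := by
        intro μ
        have hn : ‖(μ d : ℂ)‖ = 1 := Complex.norm_eq_one_of_pow_eq_one
          (by rw [← Units.val_pow_eq_pow_val, ← map_pow, pow_card_eq_one', map_one, Units.val_one])
          Nat.card_pos.ne'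
        show (μ d : ℂ) * conj (μ d : ℂ) = 1
        rw [Complex.mul_conj', hn]
        norm_num
      rw [Finset.sum_congr rfl fun μ _ => hterm μ, Finset.sum_const, Finset.card_univ, nsmul_eq_mul,
        mul_one, Nat.cast_inj] at h1
      rw [← h1, ← Nat.card_eq_fintype_card, Nat.card_congr Abelianization.lift,
        CommGroup.card_monoidHom_of_hasEnoughRootsOfUnity]
    have hlt : Nat.card K < Nat.card (Abelianization N) := by
      rw [← hcent]
      have hle : K ≤ Subgroup.centralizer ({d} : Set N) := by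
        intro z hz
        obtain ⟨y, hy, hyz⟩ := (hKK z).1 hz
        rw [Subgroup.mem_centralizer_singleton_iff]
        -- `y` commutes with `d`
        set t : G := (s₀ : G)
        have hty : Commute (y : G) t :=
          (Subgroup.mem_centralizer_iff.1 hy.2 _ (Subgroup.mem_map_of_mem Hc.subtype hs₀)).symm
        have hcm : ⁅(y : G), u₀⁆ ∈ V := hPV (Subgroup.commutator_mem_commutator y.2 hu₀)
        set cc := ⁅(y : G), u₀⁆ with hcc
        have h1 : (y : G) * u₀ = cc * u₀ * y := by rw [hcc, commutatorElement_def]; group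
        have h2 : cc * t = t * cc := (hQV _ hs₀ _ hcm).symm
        have h4 : u₀ * cc = cc * u₀ := hVcent cc hcm u₀ hu₀
        have hyd : (y : G) * (d : G) = (d : G) * y := by
          have h3 : (y : G) * u₀⁻¹ = cc⁻¹ * u₀⁻¹ * y := by
            have e : cc⁻¹ * u₀⁻¹ = u₀⁻¹ * cc⁻¹ := by rw [← mul_inv_rev, h4, mul_inv_rev]
            calc (y : G) * u₀⁻¹ = u₀⁻¹ * cc⁻¹ * (cc * u₀ * y) * u₀⁻¹ := by group
              _ = cc⁻¹ * u₀⁻¹ * y := by rw [← h1, e]; group
          have h5 : cc⁻¹ * t = t * cc⁻¹ := ((show Commute cc t from h2).inv_left).eq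
          have h6 : (y : G) * t⁻¹ = t⁻¹ * y := hty.inv_right.eq
          have h7 : cc⁻¹ * u₀ = u₀ * cc⁻¹ := ((show Commute u₀ cc from h4).inv_right).eq.symm
          show (y : G) * ⁅u₀, t⁆ = ⁅u₀, t⁆ * y
          rw [commutatorElement_def]
          calc (y : G) * (u₀ * t * u₀⁻¹ * t⁻¹) = ((y : G) * u₀) * t * u₀⁻¹ * t⁻¹ := by group
            _ = cc * u₀ * ((y : G) * t) * u₀⁻¹ * t⁻¹ := by rw [h1]; group
            _ = cc * u₀ * t * ((y : G) * u₀⁻¹) * t⁻¹ := by rw [hty.eq]; group
            _ = cc * u₀ * (t * cc⁻¹) * u₀⁻¹ * ((y : G) * t⁻¹) := by rw [h3]; group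
            _ = cc * (u₀ * cc⁻¹) * t * u₀⁻¹ * (t⁻¹ * y) := by rw [← h5, h6]; group
            _ = _ := by rw [← h7]; group
        have hw : ((y⁻¹ * z : N) : G) ∈ V := hcommV _ hyz
        have hzd : Commute ((y : N) : G) (d : G) := hyd
        have hwd : Commute ((y⁻¹ * z : N) : G) (d : G) := (hVcent _ hw (d : G) d.2).symm
        have h8 := hzd.mul_left hwd
        rw [Subgroup.coe_mul, Subgroup.coe_inv, mul_inv_cancel_left] at h8
        first
          | exact Subtype.ext h8.eq
          | exact Subtype.ext h8.eq.symm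
      refine lt_of_le_of_ne (Subgroup.card_le_of_le hle) fun e => hdK ?_
      rw [Subgroup.eq_of_le_of_card_ge hle e.ge]
      exact Subgroup.mem_centralizer_singleton_iff.2 rfl
    have hbig : Nat.card V < Nat.card W₂ := by
      rw [← hW₂card, hKcard] at hlt
      exact Nat.lt_of_mul_lt_mul_left (a := Nat.card Kb) (by rwa [mul_comm (Nat.card Kb) (Nat.card W₂)])
    -- compare
    have hVdual : Nat.card (⊤ : AddSubgroup (Additive (V →* ℂˣ))) = Nat.card V := by
      rw [AddSubgroup.card_top, Nat.card_congr Additive.toMul,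
        CommGroup.card_monoidHom_of_hasEnoughRootsOfUnity]
    have hn : 1 < Nat.card (Sylow b Hc) := by
      by_contra hle
      push Not at hle
      haveI : Subsingleton (Sylow b Hc) := Finite.card_le_one_iff_subsingleton.1 hle
      exact hRnn R (Sylow.normal_of_subsingleton R)
    obtain ⟨m, hm⟩ := IsPGroup.iff_card.1 hPp
    have hpow : ∀ n : ℕ, n ∣ p ^ m → ∃ i, n = p ^ i := fun n hn =>
      ((Nat.dvd_prime_pow h.hp).1 hn).imp fun i hi => hi.2
    have hd1 : ∀ X : AddSubgroup (Additive (N →* ℂˣ)), Nat.card X ∣ p ^ m := fun X => by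
      refine (AddSubgroup.card_addSubgroup_dvd_card X).trans ?_
      rw [Nat.card_congr Additive.toMul, Nat.card_congr Abelianization.lift,
        CommGroup.card_monoidHom_of_hasEnoughRootsOfUnity, ← hm]
      exact Subgroup.card_quotient_dvd_card (commutator N)
    have hd2 : ∀ X : AddSubgroup (Additive (V →* ℂˣ)), Nat.card X ∣ p ^ m := fun X => by
      refine (AddSubgroup.card_addSubgroup_dvd_card X).trans ?_
      rw [Nat.card_congr Additive.toMul, CommGroup.card_monoidHom_of_hasEnoughRootsOfUnity, ← hm]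
      exact Subgroup.card_dvd_of_le hVN
    obtain ⟨A, hA'⟩ := hpow _ (hd2 ⊤)
    obtain ⟨B, hB'⟩ := hpow _ (hd1 W₂)
    obtain ⟨α, hα⟩ := hpow _ (hd2 (⊤ ⊓ fixS ρV (R : Subgroup Hc)))
    obtain ⟨β, hβ⟩ := hpow _ (hd1 (W₂ ⊓ fixS ρP (R : Subgroup Hc)))
    rw [hA', hα] at e1
    rw [hB', hβ] at e2
    have hV1 : 1 < Nat.card V := by
      rw [Nat.one_lt_iff_ne_zero_and_ne_one]
      exact ⟨Nat.card_pos.ne', fun e => hVne (Subgroup.card_eq_one.1 e)⟩
    rw [← hVdual, hA'] at hbig hV1
    rw [hB'] at hbig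
    have hA0 : A ≠ 0 := fun e => by rw [e, pow_zero] at hV1; omega
    have hB0 : B ≠ 0 := fun e => by rw [e, pow_zero] at hbig; omega
    rw [partition_eq h.hp hn hA0 hB0 e1 e2] at hbig
    exact lt_irrefl _ hbig
  -- conclude
  by_cases hq' : ∃ Q : Sylow q Hc, (Q : Subgroup Hc).Normal
  · obtain ⟨Q, hQ⟩ := hq'
    exact hone q r h.hq h.hr (Or.inl rfl) (Or.inr rfl) h.dq h.dr h.nqr Q hQ
  by_cases hr' : ∃ R : Sylow r Hc, (R : Subgroup Hc).Normal
  · obtain ⟨R, hR⟩ := hr'
    exact hone r q h.hr h.hq (Or.inr rfl) (Or.inl rfl) h.dr h.dq h.nqr.symm R hR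
  push Not at hq' hr'
  have hexpV : ∀ w : Additive (V →* ℂˣ), ℓ • w = 0 := dual_exponent V hexp
  refine core_apply ρV hirrV hℓp hexpV h.hq h.hr h.hqr (fun a ha => ?_) (h.nqr.map π hπ)
  rcases ha with rfl | rfl
  · exact ⟨hq', hfixV _ h.hq (Or.inl rfl)⟩
  · exact ⟨hr', hfixV _ h.hr (Or.inr rfl)⟩

/-- No three pairwise non-adjacent degree primes. -/
theorem no_three : ∀ (n : ℕ) (G : Type u) [Group G] [Finite G], Nat.card G = n → Group.IsSolvable G →
    ∀ p q r : ℕ, p.Prime → q.Prime → r.Prime → p ≠ q → q ≠ r → p ≠ r →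
      Deg G p → Deg G q → Deg G r → NA G p q → NA G q r → NA G p r → False := by
  intro n
  induction n using Nat.strong_induction_on with
  | _ n ih =>
  intro G _ _ hn hs p q r hp hq hr hpq hqr hpr dp dq dr npq nqr npr
  haveI := hs
  have h : Hyp G p q r :=
    { hp := hp, hq := hq, hr := hr, hpq := hpq, hqr := hqr, hpr := hpr, dp := dp, dq := dq, dr := dr
      npq := npq, nqr := nqr, npr := npr
      quot := fun N _ hN => by
        by_contra hno
        push Not at hno
        exact ih _ (hn ▸ Grp.card_quotient_lt hN) (G ⧸ N) rfl inferInstance p q r hp hq hr hpq hqr hpr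
          hno.1 hno.2.1 hno.2.2 (npq.map _ (QuotientGroup.mk'_surjective N))
          (nqr.map _ (QuotientGroup.mk'_surjective N)) (npr.map _ (QuotientGroup.mk'_surjective N)) }
  by_cases h1 : ∃ P : Sylow p G, (P : Subgroup G).Normal
  · obtain ⟨P, hP⟩ := h1
    exact normal_case h P hP
  by_cases h2 : ∃ P : Sylow q G, (P : Subgroup G).Normal
  · obtain ⟨P, hP⟩ := h2
    exact normal_case h.rot P hP
  by_cases h3 : ∃ P : Sylow r G, (P : Subgroup G).Normal
  · obtain ⟨P, hP⟩ := h3
    exact normal_case h.rot.rot P hP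
  push Not at h1 h2 h3
  refine split_case h fun a ha => ?_
  rcases ha with rfl | rfl | rfl
  exacts [h1, h2, h3]

end Cfsg.Agent.Char.ThreePrimes
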