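import Cfsg.Agent.Lib.Char.ThreePrimes.Basic

/-!
# Three pairwise non-adjacent degree primes: the case without normal Sylow subgroup
-/

set_option autoImplicit false
set_option linter.unusedSectionVars false
set_option linter.style.haveILetI false

open Cfsg Cfsg.Agent.Block.DegreeRel
open scoped Pointwise commutatorElement

namespace Cfsg.Agent.Char.ThreePrimes

universe u

/-- A minimal counterexample. -/
structure Hyp (G : Type u) [Group G] (p q r : ℕ) : Prop where
  hp : p.Prime
  hq : q.Prime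
  hr : r.Prime
  hpq : p ≠ q
  hqr : q ≠ r
  hpr : p ≠ r
  dp : Deg G p
  dq : Deg G q
  dr : Deg G r
  npq : NA G p q
  nqr : NA G q r
  npr : NA G p r
  quot : ∀ (N : Subgroup G) [N.Normal], N ≠ ⊥ → ¬ Deg (G ⧸ N) p ∨ ¬ Deg (G ⧸ N) q ∨ ¬ Deg (G ⧸ N) r

variable {G : Type u} [Group G] [Finite G] {p q r : ℕ}

theorem Hyp.rot (h : Hyp G p q r) : Hyp G q r p where
  hp := h.hq
  hq := h.hr
  hr := h.hp
  hpq := h.hqr
  hqr := h.hpr.symm
  hpr := h.hpq.symm
  dp := h.dq
  dq := h.dr
  dr := h.dp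
  npq := h.nqr
  nqr := h.npr.symm
  npr := h.npq.symm
  quot := fun N _ hN => by
    rcases h.quot N hN with e | e | e
    · exact Or.inr (Or.inr e)
    · exact Or.inl e
    · exact Or.inr (Or.inl e)

theorem Hyp.swap (h : Hyp G p q r) : Hyp G p r q where
  hp := h.hp
  hq := h.hr
  hr := h.hq
  hpq := h.hpr
  hqr := h.hqr.symm
  hpr := h.hpq
  dp := h.dp
  dq := h.dr
  dr := h.dq
  npq := h.npr
  nqr := h.nqr.symm
  npr := h.npq
  quot := fun N _ hN => by
    rcases h.quot N hN with e | e | e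
    · exact Or.inl e
    · exact Or.inr (Or.inr e)
    · exact Or.inr (Or.inl e)

/-- What an abelian normal Sylow subgroup of a quotient says upstairs. -/
theorem pull [Group.IsSolvable G] {a : ℕ} (ha : a.Prime) (N : Subgroup G) [N.Normal]
    (h : ¬ Deg (G ⧸ N) a) (A : Sylow a G) :
    ((A : Subgroup G) ⊔ N).Normal ∧
      ∀ x ∈ (A : Subgroup G), ∀ y ∈ (A : Subgroup G), x * y * (y * x)⁻¹ ∈ N := by
  haveI := Fact.mk ha
  obtain ⟨hn', hc⟩ := normalAb_of_not_deg ha h (A.mapSurjective (QuotientGroup.mk'_surjective N))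
  rw [Sylow.coe_mapSurjective] at hn' hc
  refine ⟨?_, fun x hx y hy => ?_⟩
  · have := hn'.comap (QuotientGroup.mk' N)
    rwa [Subgroup.comap_map_eq, QuotientGroup.ker_mk'] at this
  · rw [← QuotientGroup.eq_one_iff, QuotientGroup.mk_mul, QuotientGroup.mk_inv, mul_inv_eq_one]
    exact hc _ (Subgroup.mem_map_of_mem _ hx) _ (Subgroup.mem_map_of_mem _ hy)

theorem exists_factor_mem {V Hc : Subgroup G} [V.Normal] (hc : V.IsComplement' Hc) (g : G) :
    ∃ v ∈ V, ∃ h ∈ Hc, v * h = g := by
  obtain ⟨⟨⟨v, hv⟩, ⟨h, hh⟩⟩, e⟩ := hc.2 g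
  exact ⟨v, hv, h, hh, e⟩

/-- The case without a normal Sylow subgroup. -/
theorem split_case [Group.IsSolvable G] (h : Hyp G p q r)
    (hnn : ∀ a : ℕ, a = p ∨ a = q ∨ a = r → ∀ A : Sylow a G, ¬ (A : Subgroup G).Normal) : False := by
  classical
  have hprime : ∀ a : ℕ, a = p ∨ a = q ∨ a = r → a.Prime := by
    rintro a (rfl | rfl | rfl)
    exacts [h.hp, h.hq, h.hr]
  -- the Frattini subgroup is trivial
  have hΦ : frattini G = ⊥ := by
    by_contra hne
    obtain ⟨a, haS, ha⟩ : ∃ a, (a = p ∨ a = q ∨ a = r) ∧ ¬ Deg (G ⧸ frattini G) a := by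
      rcases h.quot _ hne with e | e | e
      exacts [⟨p, Or.inl rfl, e⟩, ⟨q, Or.inr (Or.inl rfl), e⟩, ⟨r, Or.inr (Or.inr rfl), e⟩]
    haveI := Fact.mk (hprime a haS)
    obtain ⟨A⟩ : Nonempty (Sylow a G) := inferInstance
    haveI := (pull (hprime a haS) _ ha A).1
    have hle : (A : Subgroup G) ≤ (A : Subgroup G) ⊔ frattini G := le_sup_left
    have h1 := Sylow.normalizer_sup_eq_top (A.subtype hle)
    rw [Sylow.coe_subtype, Subgroup.subgroupOf_map_subtype, inf_eq_left.2 hle] at h1
    have h2 : Subgroup.normalizer ((A : Subgroup G) : Set G) ⊔ frattini G = ⊤ := by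
      rw [eq_top_iff, ← h1]
      exact sup_le le_sup_left (sup_le (Subgroup.le_normalizer.trans le_sup_left) le_sup_right)
    exact hnn a haS A (Subgroup.normalizer_eq_top_iff.1 (frattini_nongenerating h2))
  -- a minimal normal subgroup with a complement
  haveI : Nontrivial G := by
    by_contra hG
    rw [not_nontrivial_iff_subsingleton] at hG
    haveI := Fact.mk h.hp
    obtain ⟨A⟩ : Nonempty (Sylow p G) := inferInstance
    exact hnn p (Or.inl rfl) A ⟨fun x hx g => by rwa [Subsingleton.elim (g * x * g⁻¹) x]⟩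
  obtain ⟨V, hVn, hVne, -, hmin⟩ := Grp.exists_minimal_normal_le (N := (⊤ : Subgroup G)) top_ne_bot
  haveI := hVn
  obtain ⟨hVab, ℓ, hℓp, hexp⟩ := Grp.minimal_normal_solvable (N := V) inferInstance hVne hmin
  have hab : ∀ a ∈ V, ∀ b ∈ V, a * b = b * a := fun a ha b hb =>
    congrArg Subtype.val (hVab.is_comm.comm (⟨a, ha⟩ : V) ⟨b, hb⟩)
  haveI := Fact.mk hℓp
  have hVℓ : IsPGroup ℓ V := fun v => ⟨1, Subtype.ext (by simpa using hexp v v.2)⟩
  obtain ⟨Hc, hHc, hVH⟩ : ∃ M : Subgroup G, IsCoatom M ∧ ¬ V ≤ M := by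
    by_contra hno
    push Not at hno
    refine hVne (le_bot_iff.1 (hΦ ▸ ?_))
    rw [frattini, Order.radical]
    exact le_iInf₂ hno
  have hsup : V ⊔ Hc = ⊤ := hHc.2 _ (lt_of_le_of_ne le_sup_right fun e => hVH (e ▸ le_sup_left))
  have hinf : V ⊓ Hc = ⊥ := by
    refine (hmin (V ⊓ Hc) ?_ inf_le_left).resolve_right fun e => hVH (e ▸ inf_le_right)
    rw [← Subgroup.normalizer_eq_top_iff, eq_top_iff, ← hsup]
    refine sup_le ?_ ?_
    · intro v hv
      rw [Subgroup.mem_normalizer_iff]
      intro n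
      refine ⟨fun hn => ?_, fun hn => ?_⟩
      · rw [hab v hv n hn.1, mul_inv_cancel_right]; exact hn
      · have hnV : n ∈ V := by simpa [mul_assoc] using hVn.conj_mem _ hn.1 v⁻¹
        rw [hab v hv n hnV, mul_inv_cancel_right] at hn
        exact hn
    · intro g hg
      rw [Subgroup.mem_normalizer_iff]
      intro n
      exact and_congr
        ⟨fun hn => hVn.conj_mem n hn g, fun hn => by simpa [mul_assoc] using hVn.conj_mem _ hn g⁻¹⟩
        ⟨fun hn => Hc.mul_mem (Hc.mul_mem hg hn) (Hc.inv_mem hg),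
          fun hn => by simpa [mul_assoc] using Hc.mul_mem (Hc.mul_mem (Hc.inv_mem hg) hn) hg⟩
  have hc : V.IsComplement' Hc := by
    refine Subgroup.isComplement'_of_disjoint_and_mul_eq_univ (disjoint_iff.2 hinf) ?_
    rw [← Subgroup.normal_mul, hsup]
    rfl
  have hcard : Nat.card V * Nat.card Hc = Nat.card G := hc.card_mul_card
  let e : G ⧸ V ≃* Hc := hc.symm.QuotientMulEquiv
  have hgen : ∀ g : G, ∃ u : Hc, ∀ n ∈ V, g * n * g⁻¹ = u * n * (u : G)⁻¹ := by
    intro g
    obtain ⟨v, hv, u, hu, rfl⟩ := exists_factor_mem hc g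
    refine ⟨⟨u, hu⟩, fun n hn => ?_⟩
    have h1 : u * n * u⁻¹ ∈ V := hVn.conj_mem n hn u
    calc v * u * n * (v * u)⁻¹ = v * (u * n * u⁻¹) * v⁻¹ := by group
      _ = u * n * u⁻¹ := by rw [hab v hv _ h1, mul_inv_cancel_right]
  set ρ := dualRep V Hc
  have hirr : Irred ρ := dual_irred V Hc hab hmin hgen
  haveI := dual_nontrivial V hVne hab
  haveI : Finite (V →* ℂˣ) := dual_finite
  -- a normal abelian Sylow subgroup of the complement moves every character
  have moving : ∀ a : ℕ, (a = p ∨ a = q ∨ a = r) → ∀ S : Sylow a Hc, (S : Subgroup Hc).Normal →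
      (∀ x ∈ (S : Subgroup Hc), ∀ y ∈ (S : Subgroup Hc), x * y = y * x) →
      ∀ l : V →* ℂˣ, l ≠ 1 → a ∣ (stabIn V Hc ((linIrr l : IrrCharacter V) : V → ℂ)).index := by
    intro a haS S hSn hSc l hl
    haveI := Fact.mk (hprime a haS)
    haveI := hSn
    set S' := (S : Subgroup Hc).map Hc.subtype with hS'
    have hS'p : IsPGroup a S' := S.isPGroup'.map _
    have hS'card : Nat.card S' = a ^ (Nat.card Hc).factorization a := by
      rw [hS', Subgroup.card_map_of_injective Hc.subtype_injective]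
      exact S.card_eq_multiplicity
    have hHcn : Hc ≤ Subgroup.normalizer (S' : Set G) := by
      intro g hg
      rw [Subgroup.mem_normalizer_iff]
      intro n
      constructor
      · rintro ⟨s, hs, rfl⟩
        exact ⟨_, hSn.conj_mem s hs ⟨g, hg⟩, by simp⟩
      · rintro ⟨s, hs, e⟩
        refine ⟨_, hSn.conj_mem s hs (⟨g, hg⟩⁻¹ : Hc), ?_⟩
        change (s : G) = _ at e
        simp [e, mul_assoc]
    have haℓ : a ≠ ℓ := by
      rintro rfl
      have hVS : IsPGroup a ↥(V ⊔ S') := hVℓ.to_sup_of_normal_left hS'p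
      obtain ⟨A, hA⟩ := hVS.exists_le_sylow
      have hdisj : V ⊓ S' = ⊥ :=
        le_bot_iff.1 (hinf ▸ inf_le_inf_left V (Subgroup.map_subtype_le _))
      have hcd : Nat.card ↥(V ⊔ S') = Nat.card A := by
        have h1 := Grp.card_sup_mul_card_inf (H := S') (N := V)
          (by rw [Subgroup.normalizer_eq_top]; exact le_top)
        rw [sup_comm, inf_comm, hdisj, Subgroup.card_bot, mul_one] at h1
        obtain ⟨k, hk⟩ := IsPGroup.iff_card.1 hVℓ
        rw [h1, hS'card, hk, A.card_eq_multiplicity, ← hcard, hk,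
          Nat.factorization_mul (pow_ne_zero _ (hprime a haS).ne_zero) Nat.card_pos.ne',
          Finsupp.add_apply, Nat.Prime.factorization_pow (hprime a haS), Finsupp.single_eq_same,
          ← pow_add, add_comm]
      have hAe : V ⊔ S' = A := Subgroup.eq_of_le_of_card_ge hA hcd.ge
      refine hnn a haS A ?_
      rw [← hAe, ← Subgroup.normalizer_eq_top_iff, eq_top_iff, ← hsup]
      refine sup_le (le_sup_left.trans Subgroup.le_normalizer) fun g hg => ?_
      have h1 : g ∈ Subgroup.normalizer (V : Set G) := by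
        rw [Subgroup.normalizer_eq_top]; exact Subgroup.mem_top g
      rw [Grp.mem_normalizer_iff_smul] at h1 ⊢
      rw [Subgroup.smul_sup, h1, Grp.mem_normalizer_iff_smul.1 (hHcn hg)]
    have hncent : ¬ ∀ s ∈ S', ∀ v ∈ V, s * v = v * s := by
      intro hcent
      obtain ⟨A, hA⟩ := hS'p.exists_le_sylow
      have hcd : Nat.card S' = Nat.card A := by
        rw [hS'card, A.card_eq_multiplicity, ← hcard,
          Nat.factorization_mul Nat.card_pos.ne' Nat.card_pos.ne', Finsupp.add_apply,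
          Nat.factorization_eq_zero_of_not_dvd (n := Nat.card V) (fun hd => ?_), zero_add]
        obtain ⟨k, hk⟩ := IsPGroup.iff_card.1 hVℓ
        exact haℓ ((Nat.prime_dvd_prime_iff_eq (hprime a haS) hℓp).1
          ((hprime a haS).dvd_of_dvd_pow (hk ▸ hd)))
      have hAe : S' = A := Subgroup.eq_of_le_of_card_ge hA hcd.ge
      refine hnn a haS A ?_
      rw [← hAe, ← Subgroup.normalizer_eq_top_iff, eq_top_iff, ← hsup]
      refine sup_le (fun v hv => ?_) hHcn
      rw [Subgroup.mem_normalizer_iff]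
      intro n
      constructor
      · intro hn
        rw [← hcent n hn v hv, mul_inv_cancel_right]; exact hn
      · intro hn
        have e := hcent _ hn v hv
        have : v * n * v⁻¹ = n := by
          have e' : v * n = v * (v * n * v⁻¹) := by
            calc v * n = v * n * v⁻¹ * v := by group
              _ = _ := e
          exact (mul_left_cancel e').symm
        rwa [this] at hn
    -- the fixed characters form an invariant subgroup
    rcases hirr (fixS ρ (S : Subgroup Hc)) (fun g w hw s hs => by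
      rw [act_act, show s * g = g * (g⁻¹ * s * g) by group, ← act_act]
      exact congrArg _ (hw _ (by simpa using hSn.conj_mem s hs g⁻¹))) with hb | ht
    · by_contra hd
      have hle : (S : Subgroup Hc) ≤ stabIn V Hc ((linIrr l : IrrCharacter V) : V → ℂ) :=
        le_of_normal_index (hprime a haS) _ _ ⊥ bot_le bot_le
          (by rw [Subgroup.relIndex_bot_left]; exact S.card_eq_multiplicity) hd
      have hmem := (fixS_dualRep V Hc l _).2 hle
      rw [hb, AddSubgroup.mem_bot] at hmem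
      exact hl (congrArg Additive.toMul hmem)
    · exfalso
      refine hncent fun s hs v hv => ?_
      obtain ⟨s, hsS, rfl⟩ := hs
      letI : CommGroup V := { (inferInstance : Group V) with
        mul_comm := fun a b => Subtype.ext (hab a a.2 b b.2) }
      have key : conjEquivN V (s : G) (⟨v, hv⟩ : V) = ⟨v, hv⟩ := by
        refine (CommGroup.forall_apply_eq_apply_iff V (M := ℂ)).1 fun φ => ?_
        have hfix : Additive.ofMul φ ∈ fixS ρ (S : Subgroup Hc) := ht.symm ▸ AddSubgroup.mem_top _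
        have := (fixS_dualRep V Hc φ _).1 hfix hsS
        have e1 := congrFun ((mem_inertia V).1 (Subgroup.mem_subgroupOf.1 this)) (⟨v, hv⟩ : V)
        rw [conjN_eq_comp] at e1
        exact Units.ext e1
      have e2 := congrArg Subtype.val key
      rw [conjEquivN_apply] at e2
      exact mul_inv_eq_iff_eq_mul.1 e2
  -- the prime missing in the quotient
  have main : ∀ y x z : ℕ, (y = p ∨ y = q ∨ y = r) → (x = p ∨ x = q ∨ x = r) →
      (z = p ∨ z = q ∨ z = r) → x ≠ z → NA G x y → NA G z y → NA G x z →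
      ¬ Deg (G ⧸ V) y → False := by
    intro y x z hy hx hz hxz hxy hzy hNxz hd
    haveI := Fact.mk (hprime y hy)
    obtain ⟨Y⟩ : Nonempty (Sylow y Hc) := inferInstance
    have hdH : ¬ Deg Hc y := by
      rintro ⟨χ, hχ⟩
      obtain ⟨ψ, hψ⟩ := deg_map e.toMonoidHom e.surjective χ
      exact hd ⟨ψ, hψ ▸ hχ⟩
    obtain ⟨hYn, hYc⟩ := normalAb_of_not_deg (hprime y hy) hdH Y
    have hfacts : ∀ a : ℕ, (a = x ∨ a = z) → (∀ S : Sylow a Hc, ¬ (S : Subgroup Hc).Normal) ∧
        ∀ w : Additive (V →* ℂˣ), w ≠ 0 → (∃ S : Sylow a Hc, w ∈ fixS ρ (S : Subgroup Hc)) ∧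
          ∀ S S' : Sylow a Hc, w ∈ fixS ρ (S : Subgroup Hc) → w ∈ fixS ρ (S' : Subgroup Hc) → S = S' := by
      intro a hax
      have haS : a = p ∨ a = q ∨ a = r := by rcases hax with rfl | rfl <;> assumption
      have hay : NA G a y := by rcases hax with rfl | rfl <;> assumption
      haveI := Fact.mk (hprime a haS)
      have hstab : ∀ l : V →* ℂˣ, l ≠ 1 →
          ¬ a ∣ (stabIn V Hc ((linIrr l : IrrCharacter V) : V → ℂ)).index ∧
            NormalAb (stabIn V Hc ((linIrr l : IrrCharacter V) : V → ℂ)) a := fun l hl =>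
        stab_sylow V Hc hc (linIrr l) (ext_of_complement V Hc hc hab l) (hprime a haS) hay
          ((moving y hy Y hYn hYc l hl).mul_right _)
      refine ⟨fun S hS => ?_, fun w hw => ?_⟩
      · obtain ⟨w, hw⟩ := exists_ne (0 : Additive (V →* ℂˣ))
        have hl : Additive.toMul w ≠ 1 := fun e => hw (Additive.toMul.injective e)
        obtain ⟨h1, h2⟩ := hstab _ hl
        obtain ⟨-, -, h3⟩ := unique_sylow h1 h2
        exact h1 (moving a haS S hS (h3 S) _ hl)
      · obtain ⟨l, rfl⟩ := Additive.ofMul.surjective w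
        have hl : l ≠ 1 := fun e => hw (by rw [e]; rfl)
        obtain ⟨h1, h2⟩ := hstab l hl
        obtain ⟨⟨S, hS⟩, huq, -⟩ := unique_sylow h1 h2
        exact ⟨⟨S, (fixS_dualRep V Hc l _).2 hS⟩, fun S S' hS hS' =>
          huq S S' ((fixS_dualRep V Hc l _).1 hS) ((fixS_dualRep V Hc l _).1 hS')⟩
    exact core_apply ρ hirr hℓp (dual_exponent V hexp) (hprime x hx) (hprime z hz) hxz hfacts
      (hNxz.map (e.toMonoidHom.comp (QuotientGroup.mk' V))
        (e.surjective.comp (QuotientGroup.mk'_surjective V)))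
  rcases h.quot V hVne with hd | hd | hd
  · exact main p q r (Or.inl rfl) (Or.inr (Or.inl rfl)) (Or.inr (Or.inr rfl)) h.hqr h.npq.symm
      h.npr.symm h.nqr hd
  · exact main q p r (Or.inr (Or.inl rfl)) (Or.inl rfl) (Or.inr (Or.inr rfl)) h.hpr h.npq
      h.nqr.symm h.npr hd
  · exact main r p q (Or.inr (Or.inr rfl)) (Or.inl rfl) (Or.inr (Or.inl rfl)) h.hpq h.npr h.nqr
      h.npq hd

end Cfsg.Agent.Char.ThreePrimes
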